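import Cfsg.Agent.TwoF.XE.Wt
import Cfsg.Agent.TwoF.SpA.Gen

/-!
# TwoF SP-C : lower bounds for `cod` in characteristic two inside an overgroup `Γ` of `Aut G` (helper83)

`LH G E n` : every subgroup that covers `E ≤ Γ` has codimension at least `n`; `LE G x n` for an element.
`LH.pivot` : conjugates that share an element.  `row_two` : the row from a Sylow subgroup of `Aut G`.
-/

set_option autoImplicit false

namespace Cfsg.Agent.TwoF.SpC

open Cfsg Subgroup Cfsg.Agent.TwoF.Gen Cfsg.Agent.TwoF.XE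
open scoped commutatorElement

section Y

variable {k : Type*} [Field k] {Y : Type*} [Group Y] {V : Type*} [AddCommGroup V] [Module k V]
  [FiniteDimensional k V] {ρ : Representation k Y V}

theorem cod_sup_pivot {A B : Subgroup Y} {a : Y} (ha : a ∈ A) (hb : a ∈ B) :
    cod ρ (A ⊔ B) + cod ρ (zpowers a) ≤ cod ρ A + cod ρ B :=
  (Nat.add_le_add_left (cod_mono (zpowers_le.2 (mem_inf.2 ⟨ha, hb⟩))) _).trans (cod_sup_add_inf A B)

theorem pivot_core {A : Subgroup Y} {a b : Y} (ha : a ∈ A) (hb : b ∈ A) : ∀ l : List Y, (∀ y ∈ l, y * a = a * y) →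
    ∃ B : Subgroup Y, a ∈ B ∧ (l.map (· * b)).prod * l.prod⁻¹ ∈ B ∧
      cod ρ B + l.length * cod ρ (zpowers a) ≤ l.length * cod ρ A + cod ρ (zpowers a)
  | [], _ => ⟨zpowers a, mem_zpowers a, by simp, by simp⟩
  | y :: l, h => by
    obtain ⟨B, h1, h2, h3⟩ := pivot_core ha hb l fun x hx => h x (List.mem_cons_of_mem _ hx)
    have h4 := cod_sup_pivot (ρ := ρ) ha h1
    refine ⟨(A ⊔ B).map (MulAut.conj y).toMonoidHom, ⟨a, mem_sup_left ha, ?_⟩,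
      ⟨_, mul_mem (mem_sup_left hb) (mem_sup_right h2), ?_⟩, ?_⟩
    · show y * a * y⁻¹ = a
      rw [h y List.mem_cons_self, mul_inv_cancel_right]
    · show y * _ * y⁻¹ = _
      simp only [List.map_cons, List.prod_cons, mul_inv_rev, mul_assoc]
    · rw [cod_conj, List.length_cons, Nat.succ_mul, Nat.succ_mul]
      omega

omit [FiniteDimensional k V] in
theorem cod_of_mul_eq {g a b : Y} (h : g * a = b * g) : cod ρ (zpowers b) = cod ρ (zpowers a) := by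
  rw [← cod_zpowers_conj g a, h, mul_inv_cancel_right]

theorem cod_pow_eq {a : Y} {i j n : ℕ} (ha : a ^ n = 1) (h : i * j % n = 1) :
    cod ρ (zpowers (a ^ i)) = cod ρ (zpowers a) := by
  refine le_antisymm (cod_mono (zpowers_le.2 (pow_mem (mem_zpowers a) i))) (cod_mono (zpowers_le.2 ?_))
  have h1 := pow_mem (mem_zpowers (a ^ i)) j
  rwa [← pow_mul, pow_eq_pow_mod (i * j) ha, h, pow_one] at h1

theorem sup_eq (a b : Y) : zpowers a ⊔ zpowers b = closure {a, b} := by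
  rw [zpowers_eq_closure, zpowers_eq_closure, ← Subgroup.closure_union, Set.insert_eq]

theorem elemAb_two {a b : Y} {s : ℕ} (hab : a * b = b * a) (ha : a ^ s = 1) (hb : b ^ s = 1) :
    IsElementaryAbelian s (zpowers a ⊔ zpowers b) := by
  rw [sup_eq]
  refine SpA.elemAb_closure ?_ ?_
  · rintro x (rfl | rfl) y (rfl | rfl)
    exacts [rfl, hab, hab.symm, rfl]
  · rintro x (rfl | rfl)
    exacts [ha, hb]

/-- coprime action on a group of rank two -/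
theorem cop2 [Finite Y] {a b d : Y} {s t : ℕ} (hs : s.Prime) (hk : (s : k) ≠ 0) [Fact t.Prime] (hab : a * b = b * a)
    (ha : a ^ s = 1) (hb : b ^ s = 1) (hd : d ^ t = 1) (h1 : d * a * d⁻¹ ∈ zpowers a ⊔ zpowers b)
    (h2 : d * b * d⁻¹ ∈ zpowers a ⊔ zpowers b)
    (h3 : ∀ C : Subgroup Y, d * a * d⁻¹ * a⁻¹ ∈ C → d * b * d⁻¹ * b⁻¹ ∈ C → a ∈ C ∧ b ∈ C) :
    (t - 1) * cod ρ (zpowers a ⊔ zpowers b) ≤ t * cod ρ (zpowers d) := by
  have hR := elemAb_two hab ha hb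
  have h4 : zpowers d ≤ normalizer ((zpowers a ⊔ zpowers b : Subgroup Y) : Set Y) := by
    rw [sup_eq] at h1 h2 ⊢
    refine zpowers_le.2 (SpA.mem_normalizer_closure ?_)
    rintro x (rfl | rfl)
    exacts [h1, h2]
  have h5 := coprime_bound (ρ := ρ) (fun x hx y hy => elemAb_comm hR hx hy) (card_ne_zero_of_exp hs hk hR.2) h4
    (elemAb_isPGroup (elemAb_zpowers hd))
  refine (Nat.mul_le_mul_left _ (cod_mono ?_)).trans h5
  rw [Subgroup.commutator_comm]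
  obtain ⟨h6, h7⟩ := h3 _ (commutator_mem_commutator (mem_zpowers d) (mem_sup_left (mem_zpowers a)))
    (commutator_mem_commutator (mem_zpowers d) (mem_sup_right (mem_zpowers b)))
  exact sup_le (zpowers_le.2 h6) (zpowers_le.2 h7)

theorem mem_of_inv_sq {a : Y} {m : ℕ} (ha : a ^ (2 * m + 1) = 1) {C : Subgroup Y} (h : a⁻¹ * a⁻¹ ∈ C) : a ∈ C := by
  have h1 := pow_mem h m
  rwa [← pow_two, ← pow_mul, inv_pow, inv_eq_of_mul_eq_one_right (by rw [← pow_succ, ha])] at h1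

/-- an involution that inverts a group of rank two -/
theorem inv2 [Finite Y] {a b d : Y} {m : ℕ} (hs : (2 * m + 1).Prime) (hk : ((2 * m + 1 : ℕ) : k) ≠ 0)
    (hab : a * b = b * a) (ha : a ^ (2 * m + 1) = 1) (hb : b ^ (2 * m + 1) = 1) (hd : d ^ 2 = 1)
    (h1 : a * (d * a) = d) (h2 : b * (d * b) = d) : cod ρ (zpowers a ⊔ zpowers b) ≤ 2 * cod ρ (zpowers d) := by
  have h3 : d * a * d⁻¹ = a⁻¹ := by rw [mul_inv_eq_iff_eq_mul, eq_inv_mul_iff_mul_eq, h1]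
  have h4 : d * b * d⁻¹ = b⁻¹ := by rw [mul_inv_eq_iff_eq_mul, eq_inv_mul_iff_mul_eq, h2]
  have h5 := cop2 (ρ := ρ) hs hk hab ha hb hd (h3 ▸ inv_mem (mem_sup_left (mem_zpowers a)))
    (h4 ▸ inv_mem (mem_sup_right (mem_zpowers b))) fun C h6 h7 =>
    ⟨mem_of_inv_sq ha (h3 ▸ h6), mem_of_inv_sq hb (h4 ▸ h7)⟩
  simpa using h5

end Y

section two

variable {Y : Type*} [Group Y] [Finite Y] {V : Type*} [AddCommGroup V] [Module (ZMod 2) V] [Finite V]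
  {ρ : Representation (ZMod 2) Y V}

omit [Finite Y] in
theorem pos_of_ne (hf : Function.Injective ρ) {a : Y} (h : a ≠ 1) : 0 < cod ρ (zpowers a) :=
  cod_pos hf (by rwa [Ne, zpowers_eq_bot])

/-- an element of order three acts without fixed points on a group of order 25 -/
theorem l25 (hf : Function.Injective ρ) {f g y : Y} (h0 : f ≠ 1) (hc : f * g = g * f) (hf5 : f ^ 5 = 1)
    (hg5 : g ^ 5 = 1) (hy : y ^ 3 = 1) (h1 : y * f = g * y) (h2 : y * g = (f * g) ^ 4 * y)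
    (h3 : y * (f * g ^ 2) = (f * g ^ 3) ^ 3 * y) (h4 : y * (f * g ^ 3) = (f * g ^ 4) ^ 2 * y)
    (h5 : ((g * f ^ 4) ^ 2 * ((f * g) ^ 4 * g ^ 4)) ^ 3 = f) :
    12 ≤ cod ρ (zpowers g ⊔ zpowers f) ∧ 8 ≤ cod ρ (zpowers y) := by
  have : Fact (Nat.Prime 5) := ⟨Nat.prime_five⟩
  have : Fact (Nat.Prime 3) := ⟨Nat.prime_three⟩
  have hR := elemAb_two hc.symm hg5 hf5
  have e : ∀ i, (f * g ^ i) ^ 5 = 1 := fun i =>
    hR.2 _ (mul_mem (mem_sup_right (mem_zpowers f)) (pow_mem (mem_sup_left (mem_zpowers g)) i))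
  have s := sum_cod_rank_two (ρ := ρ) hc Nat.prime_five (by decide) hf5 hg5
  have e1 := cod_of_mul_eq (ρ := ρ) h1
  have e2 := cod_of_mul_eq (ρ := ρ) h2
  have e3 := cod_of_mul_eq (ρ := ρ) h3
  have e4 := cod_of_mul_eq (ρ := ρ) h4
  rw [cod_pow_eq (j := 4) (pow_one g ▸ e 1) rfl] at e2
  rw [cod_pow_eq (j := 2) (e 3) rfl] at e3
  rw [cod_pow_eq (j := 3) (e 4) rfl] at e4
  simp only [Finset.sum_range_succ, Finset.sum_range_zero, pow_zero, pow_one, mul_one] at s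
  have h6 := pow_cod_modEq (ρ := ρ) (s := 5) (by rw [Nat.card_zmod]; decide) (elemAb_isPGroup hR)
  rw [Nat.card_zmod] at h6
  have h7 := SpA.dvd_of_pow_mod (s := 5) (o := 4) (by decide) (by decide) (by decide) h6
  have h8 := (pos_of_ne hf h0).trans_le (cod_mono (ρ := ρ) (le_sup_right : _ ≤ zpowers g ⊔ zpowers f))
  have i1 : y * f * y⁻¹ = g := by rw [h1, mul_inv_cancel_right]
  have i2 : y * g * y⁻¹ = (f * g) ^ 4 := by rw [h2, mul_inv_cancel_right]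
  have i3 : f⁻¹ = f ^ 4 := inv_eq_of_mul_eq_one_left (by rw [← pow_succ, hf5])
  have i4 : g⁻¹ = g ^ 4 := inv_eq_of_mul_eq_one_left (by rw [← pow_succ, hg5])
  have h9 := cop2 (ρ := ρ) Nat.prime_five (by decide) hc.symm hg5 hf5 hy
    (i2 ▸ pow_mem (mul_mem (mem_sup_right (mem_zpowers f)) (mem_sup_left (mem_zpowers g))) 4)
    (by rw [i1]; exact mem_sup_left (mem_zpowers g)) fun C j1 j2 => by
      rw [i2, i4] at j1
      rw [i1] at j2
      have j3 : f ∈ C := h5 ▸ pow_mem (mul_mem (pow_mem (i3 ▸ j2) 2) j1) 3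
      exact ⟨by simpa using mul_mem j2 j3, j3⟩
  omega

end two

/-! ### the calculus -/

variable {Γ : Type} [Group Γ]

/-- a faithful module for a subgroup of `Γ` that contains `G` -/
structure Fr (G : Subgroup Γ) {Y : Type} [Group Y] {V : Type} [AddCommGroup V] [Module (ZMod 2) V]
    (ρ : Representation (ZMod 2) Y V) (ψ : Y →* Γ) : Prop where
  inj : Function.Injective ψ
  ex : ∀ g ∈ G, ∃ y, ψ y = g
  ff : Function.Injective ρ

/-- lower bound for the subgroups that cover `E` -/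
def LH (G E : Subgroup Γ) (n : ℕ) : Prop :=
  ∀ (Y : Type) [Group Y] [Finite Y] (V : Type) [AddCommGroup V] [Module (ZMod 2) V] [Finite V]
    (ρ : Representation (ZMod 2) Y V) (ψ : Y →* Γ), Fr G ρ ψ → ∀ A : Subgroup Y, E ≤ A.map ψ → n ≤ cod ρ A

/-- lower bound for an element -/
def LE (G : Subgroup Γ) (x : Γ) (n : ℕ) : Prop :=
  ∀ (Y : Type) [Group Y] [Finite Y] (V : Type) [AddCommGroup V] [Module (ZMod 2) V] [Finite V]
    (ρ : Representation (ZMod 2) Y V) (ψ : Y →* Γ), Fr G ρ ψ → ∀ y, ψ y = x → n ≤ cod ρ (zpowers y)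

variable {G H E : Subgroup Γ} {x y a b : Γ} {n m c : ℕ}

theorem LH.le (h : LH G E n) (hc : c ≤ n) : LH G E c := fun Y _ _ V _ _ _ ρ ψ F A hA => hc.trans (h Y V ρ ψ F A hA)

theorem LE.le (h : LE G x n) (hc : c ≤ n) : LE G x c := fun Y _ _ V _ _ _ ρ ψ F y hy => hc.trans (h Y V ρ ψ F y hy)

theorem LE.lh (h : LE G x n) (hx : x ∈ E) : LH G E n := fun Y _ _ V _ _ _ ρ ψ F A hA => by
  obtain ⟨y, h1, h2⟩ := hA hx
  exact (h Y V ρ ψ F y h2).trans (cod_mono (zpowers_le.2 h1))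

theorem LH.elt (h : LH G (zpowers x) n) : LE G x n := fun Y _ _ V _ _ _ ρ ψ F y hy =>
  h Y V ρ ψ F _ (zpowers_le.2 ⟨y, mem_zpowers y, hy⟩)

theorem le_one : LE G 1 0 := fun _ _ _ _ _ _ _ _ _ _ _ _ => Nat.zero_le _

theorem LH.of_conj {g : Γ} (hg : ∀ x ∈ G, g⁻¹ * x * g ∈ G) (h : LH G (E.map (MulAut.conj g).toMonoidHom) n) :
    LH G E n := fun Y _ _ V _ _ _ ρ ψ F A hA =>
  h Y V ρ ((MulAut.conj g).toMonoidHom.comp ψ) ⟨(MulAut.conj g).injective.comp F.inj, fun x hx => by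
    obtain ⟨y, hy⟩ := F.ex _ (hg x hx)
    refine ⟨y, ?_⟩
    show g * ψ y * g⁻¹ = x
    rw [hy]
    group, F.ff⟩ A (by rw [← Subgroup.map_map]; exact map_mono hA)

theorem LE.of_conj {g : Γ} (hg : ∀ x ∈ G, g⁻¹ * x * g ∈ G) (h : LE G (g * x * g⁻¹) n) : LE G x n :=
  LH.elt (LH.of_conj hg (h.lh ⟨x, mem_zpowers x, rfl⟩))

theorem conj_mem' {g : Γ} (hg : g ∈ G) : ∀ x ∈ G, g⁻¹ * x * g ∈ G := fun _ hx => mul_mem (mul_mem (inv_mem hg) hx) hg

theorem LE.of_mul_eq {g : Γ} (hg : g ∈ G) (e : g * x = y * g) (h : LE G y n) : LE G x n :=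
  LE.of_conj (conj_mem' hg) (by rwa [e, mul_inv_cancel_right])

theorem LE.of_pow (e : ℕ) (h : LE G (x ^ e) n) : LE G x n := LH.elt (h.lh (pow_mem (mem_zpowers x) e))

/-- **conjugates that share an element** -/
theorem LH.pivot (ha : a ∈ E) (hb : b ∈ E) (l : List Γ) (hl : ∀ y ∈ l, y ∈ G ∧ y * a = a * y) (h1 : l.prod = 1)
    (hm : LE G a m) (hn : LE G (l.map (· * b)).prod n) (h0 : 0 < l.length)
    (hc : l.length * (c - 1) + m < n + l.length * m) : LH G E c := fun Y _ _ V _ _ _ ρ ψ F A hA => by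
  obtain ⟨a, h2, rfl⟩ := hA ha
  obtain ⟨b, h3, rfl⟩ := hA hb
  obtain ⟨L, rfl⟩ : ∃ L : List Y, L.map ψ = l := by
    choose! f hf using F.ex
    exact ⟨l.map f, by rw [List.map_map]; exact (List.map_congr_left fun y hy => hf y (hl y hy).1).trans l.map_id⟩
  obtain ⟨B, -, h4, h5⟩ := pivot_core (ρ := ρ) h2 h3 L fun y hy =>
    F.inj (by rw [map_mul, map_mul, (hl _ (List.mem_map_of_mem hy)).2])
  rw [show L.prod = 1 from F.inj (by rw [map_list_prod, h1, map_one]), inv_one, mul_one] at h4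
  have h6 := (hn Y V ρ ψ F _ (by
    rw [map_list_prod, List.map_map, List.map_map]
    exact congrArg List.prod (List.map_congr_left fun y _ => map_mul ψ y b))).trans (cod_mono (zpowers_le.2 h4))
  have h7 := hm Y V ρ ψ F a rfl
  rw [List.length_map] at h0 hc
  obtain ⟨j, hj⟩ : ∃ j, L.length = j + 1 := ⟨L.length - 1, by omega⟩
  rw [hj] at h5 hc
  by_contra h8
  have h9 := Nat.mul_le_mul_left (j + 1) (show cod ρ A ≤ c - 1 by omega)
  have h10 := Nat.mul_le_mul_left j h7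
  rw [Nat.succ_mul j m] at hc
  rw [Nat.succ_mul j (cod ρ (zpowers a))] at h5
  omega

/-- the group `5 ^ (1 + 2)` -/
theorem le_heis {z q : Γ} (hz : z ∈ G) (hq : q ∈ G) (hy : y ∈ G) (h1 : y * z = z * y) (h2 : q * z = z * q)
    (h3 : q * y = y * z * q) (h4 : y ^ 5 = 1) (h5 : z ^ 5 = 1) (h6 : z ≠ 1) : LE G z 20 ∧ LE G y 16 := by
  have key : ∀ (Y : Type) [Group Y] [Finite Y] (V : Type) [AddCommGroup V] [Module (ZMod 2) V] [Finite V]
      (ρ : Representation (ZMod 2) Y V) (ψ : Y →* Γ), Fr G ρ ψ → ∀ z' y', ψ z' = z → ψ y' = y →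
      20 ≤ cod ρ (zpowers z') ∧ 16 ≤ cod ρ (zpowers y') := fun Y _ _ V _ _ _ ρ ψ F z y e1 e2 => by
    obtain ⟨q, rfl⟩ := F.ex q hq
    subst e1 e2
    simp only [← map_mul, ← map_pow, F.inj.eq_iff, map_eq_one_iff ψ F.inj, Ne] at h1 h2 h3 h4 h5 h6
    have h7 := heis_cod_eq (ρ := ρ) h1 h2 (by rw [h3, mul_inv_cancel_right]) Nat.prime_five (by decide) h4 h5
    have h8 := SpA.four_dvd_cod (ρ := ρ) h5
    have h9 := pos_of_ne F.ff h6
    have h10 := cod_mono (ρ := ρ) (le_sup_left : _ ≤ zpowers z ⊔ zpowers y)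
    omega
  refine ⟨fun Y _ _ V _ _ _ ρ ψ F z' e => ?_, fun Y _ _ V _ _ _ ρ ψ F y' e => ?_⟩
  · obtain ⟨y', e'⟩ := F.ex y hy
    exact (key Y V ρ ψ F z' y' e e').1
  · obtain ⟨z', e'⟩ := F.ex z hz
    exact (key Y V ρ ψ F z' y' e' e).2

/-- the bounds for `J2` -/
theorem le_j2 {f g d z q t : Γ} (hf : f ∈ G) (hg : g ∈ G) (hy : y ∈ G) (hz : z ∈ G) (hq : q ∈ G) (h0 : f ≠ 1)
    (hc : f * g = g * f) (hf5 : f ^ 5 = 1) (hg5 : g ^ 5 = 1) (hy3 : y ^ 3 = 1) (h1 : y * f = g * y)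
    (h2 : y * g = (f * g) ^ 4 * y) (h3 : y * (f * g ^ 2) = (f * g ^ 3) ^ 3 * y)
    (h4 : y * (f * g ^ 3) = (f * g ^ 4) ^ 2 * y) (h5 : ((g * f ^ 4) ^ 2 * ((f * g) ^ 4 * g ^ 4)) ^ 3 = f)
    (d0 : d ^ 2 = 1) (d1 : f * (d * f) = d) (d2 : g * (d * g) = d) (z0 : z ≠ 1) (z1 : z ^ 3 = 1) (z2 : y * z = z * y)
    (z3 : q * z = z * q) (z4 : q * y = y * z * q) (t0 : t ^ 2 = 1) (t1 : z * (t * z) = t) (t2 : y * (t * y) = t) :
    LE G d 6 ∧ LE G y 8 ∧ LE G t 5 := by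
  refine ⟨fun Y _ _ V _ _ _ ρ ψ F u e => ?_, fun Y _ _ V _ _ _ ρ ψ F u e => ?_, fun Y _ _ V _ _ _ ρ ψ F u e => ?_⟩
  all_goals
    obtain ⟨f, rfl⟩ := F.ex f hf
    obtain ⟨g, rfl⟩ := F.ex g hg
    obtain ⟨z, rfl⟩ := F.ex z hz
    obtain ⟨q, rfl⟩ := F.ex q hq
    obtain ⟨y, rfl⟩ := F.ex y hy
    simp only [← map_mul, ← map_pow, F.inj.eq_iff, map_eq_one_iff ψ F.inj, Ne] at h0 hc hf5 hg5 hy3 h1 h2 h3 h4 h5
    obtain ⟨h6, h7⟩ := l25 F.ff h0 hc hf5 hg5 hy3 h1 h2 h3 h4 h5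
  · subst e
    simp only [← map_mul, ← map_pow, F.inj.eq_iff, map_eq_one_iff ψ F.inj] at d0 d1 d2
    have := inv2 (ρ := ρ) (m := 2) Nat.prime_five (by decide) hc.symm hg5 hf5 d0 d2 d1
    omega
  · rwa [F.inj e]
  · subst e
    simp only [← map_mul, ← map_pow, F.inj.eq_iff, map_eq_one_iff ψ F.inj, Ne] at z0 z1 z2 z3 z4 t0 t1 t2
    have h8 := heis_cod_eq (ρ := ρ) z2 z3 (by rw [z4, mul_inv_cancel_right]) Nat.prime_three (by decide) hy3 z1
    have h9 := SpA.two_dvd_cod (ρ := ρ) z1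
    have h10 := pos_of_ne F.ff z0
    have := inv2 (ρ := ρ) (m := 1) Nat.prime_three (by decide) z2.symm z1 hy3 t0 t1 t2
    omega

/-! ### rows -/

theorem exists_theta (hc : ∀ p : Γ, (∀ q ∈ G, q * p = p * q) → p = 1)
    (ha : ∀ σ : MulAut G, ∃ p ∈ H, ∀ q : G, ((σ q : G) : Γ) = p * q * p⁻¹) :
    ∃ θ : MulAut G →* Γ, Function.Injective θ ∧ (∀ σ, θ σ ∈ H) ∧ ∀ s : G, θ (MulAut.conj s) = s := by
  choose f h1 h2 using ha
  have h3 : ∀ σ p, (∀ q : G, ((σ q : G) : Γ) = p * q * p⁻¹) → f σ = p := fun σ p h => by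
    refine (inv_mul_eq_one.1 (hc _ fun q hq => ?_)).symm
    have := (h2 σ ⟨q, hq⟩).symm.trans (h ⟨q, hq⟩)
    calc q * (p⁻¹ * f σ) = p⁻¹ * (p * q * p⁻¹) * f σ := by group
      _ = p⁻¹ * (f σ * q * (f σ)⁻¹) * f σ := by rw [← this]
      _ = _ := by group
  refine ⟨MonoidHom.mk' f fun σ τ => h3 _ _ fun q => ?_, (injective_iff_map_eq_one _).2 fun σ h => ?_, h1,
    fun s => h3 _ _ fun q => rfl⟩
  · rw [MulAut.mul_apply, h2, h2]
    group
  · refine MulEquiv.ext fun q => Subtype.ext ?_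
    rw [h2, show f σ = 1 from h]
    simp

theorem exists_conj_le' [Finite H] {P : Subgroup Γ} (hP : IsPGroup 2 P) (hPH : P ≤ H) (hi : ¬ 2 ∣ P.relIndex H)
    (hE : IsPGroup 2 E) (hEH : E ≤ H) : ∃ g ∈ H, E.map (MulAut.conj g).toMonoidHom ≤ P := by
  obtain ⟨g, hg⟩ := exists_conj_le (P := P.subgroupOf H) (E := E.subgroupOf H)
    (hP.of_equiv (subgroupOfEquivOfLe hPH).symm) hi (hE.of_equiv (subgroupOfEquivOfLe hEH).symm)
  refine ⟨g, g.2, ?_⟩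
  rintro _ ⟨x, hx, rfl⟩
  exact hg ⟨⟨x, hEH hx⟩, hx, rfl⟩

/-- conjugation into a Sylow subgroup inside the centraliser of a central element -/
theorem exists_conj_cent [Finite H] {P : Subgroup Γ} (hP : IsPGroup 2 P) (hPH : P ≤ H) (hi : ¬ 2 ∣ P.relIndex H)
    {z : Γ} (hz : ∀ s ∈ P, s * z = z * s) (hE : IsPGroup 2 E) (hEH : E ≤ H) (hz' : ∀ s ∈ E, s * z = z * s) :
    ∃ g ∈ H, g * z * g⁻¹ = z ∧ E.map (MulAut.conj g).toMonoidHom ≤ P := by
  have : Finite (H ⊓ centralizer {z} : Subgroup Γ) := Finite.of_injective _ (inclusion_injective inf_le_left)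
  have h1 : P ≤ H ⊓ centralizer {z} := fun s hs => ⟨hPH hs, mem_centralizer_singleton_iff.2 (hz s hs)⟩
  obtain ⟨g, hg, h2⟩ := exists_conj_le' hP h1 (fun e => hi (e.trans ⟨_, (relIndex_mul_relIndex _ _ _ h1 inf_le_left).symm⟩))
    hE fun s hs => ⟨hEH hs, mem_centralizer_singleton_iff.2 (hz' s hs)⟩
  exact ⟨g, hg.1, by rw [mem_centralizer_singleton_iff.1 hg.2, mul_inv_cancel_right], h2⟩

theorem not_le_conj (hN : ∀ g ∈ H, ∀ x ∈ G, g⁻¹ * x * g ∈ G) {g : Γ} (hg : g ∈ H) (h : ¬ E ≤ G) :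
    ¬ E.map (MulAut.conj g).toMonoidHom ≤ G := fun e => h fun x hx => by
  have := hN g hg _ (e ⟨x, hx, rfl⟩)
  rwa [show g⁻¹ * (MulAut.conj g).toMonoidHom x * g = x by simp [mul_assoc]] at this

/-- **the row in characteristic two** -/
theorem row_two [Finite H] (hc : ∀ p : Γ, (∀ q ∈ G, q * p = p * q) → p = 1)
    (ha : ∀ σ : MulAut G, ∃ p ∈ H, ∀ q : G, ((σ q : G) : Γ) = p * q * p⁻¹)
    (hN : ∀ g ∈ H, ∀ x ∈ G, g⁻¹ * x * g ∈ G) (hz : Zc 2 G 1) {P : Subgroup Γ} (hP : IsPGroup 2 P) (hPH : P ≤ H)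
    (hi : ¬ 2 ∣ P.relIndex H)
    (h88 : ∀ E ≤ P, IsElementaryAbelian 2 E → ∀ r, 3 < r → Nat.card E = 2 ^ r → ∃ d ∈ E, LE G d (2 * r - 2))
    (h89 : ∀ E ≤ P, IsElementaryAbelian 2 E → ¬ E ≤ G → ∀ r, 0 < r → Nat.card E = 2 ^ r → LH G E (2 * r + 1)) :
    Row 2 G := by
  obtain ⟨θ, h1, h2, h3⟩ := exists_theta hc ha
  have fr : ∀ {Y : Type} [Group Y] [Finite Y] {V : Type} [AddCommGroup V] [Module (ZMod 2) V] {K : Subgroup Y}
      {ρ : Representation (ZMod 2) Y V} {π : K →* G} {φ : Y →* MulAut G}, Sit 2 K ρ π φ → Fr G ρ (θ.comp φ) :=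
    fun {Y _ _ V _ _ K ρ π φ} S => ⟨h1.comp ((injective_iff_map_eq_one φ).2 fun y h => pow_one y ▸ hz.pow_eq_one S h),
      fun g hg => by
        obtain ⟨y, hy⟩ := S.surj ⟨g, hg⟩
        exact ⟨y, by rw [MonoidHom.comp_apply, S.toFrm.φ_coe, hy, h3]⟩, S.faithful⟩
  have cj : ∀ E : Subgroup (MulAut G), IsElementaryAbelian 2 E → ∃ g ∈ H,
      (E.map θ).map (MulAut.conj g).toMonoidHom ≤ P ∧
      IsElementaryAbelian 2 ((E.map θ).map (MulAut.conj g).toMonoidHom) ∧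
      Nat.card ((E.map θ).map (MulAut.conj g).toMonoidHom) = Nat.card E := fun E hE => by
    obtain ⟨g, hg, h4⟩ := exists_conj_le' hP hPH hi (elemAb_isPGroup (elemAb_map hE θ))
      (by rintro _ ⟨σ, -, rfl⟩; exact h2 σ)
    exact ⟨g, hg, h4, elemAb_map (elemAb_map hE θ) _, by rw [card_map_conj, card_map_of_injective h1]⟩
  refine ⟨row88_two fun E hE r hr h4 => Or.inr ?_, row89_of_lo fun E hE h0 r hr h4 => ?_⟩
  · obtain ⟨g, hg, h5, h6, h7⟩ := cj E hE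
    obtain ⟨_, ⟨_, ⟨d, hd, rfl⟩, rfl⟩, h8⟩ := h88 _ h5 h6 r hr (h7.trans h4)
    exact ⟨d, hd, le_of_elt fun Y _ _ V _ _ _ K ρ π φ S y hy =>
      LE.of_conj (hN g hg) h8 Y V ρ _ (fr S) y (congrArg θ hy)⟩
  · obtain ⟨g, hg, h5, h6, h7⟩ := cj E hE
    have h8 := LH.of_conj (hN g hg) (h89 _ h5 h6 (not_le_conj hN hg fun e => h0 fun σ hσ =>
      ⟨⟨θ σ, e ⟨σ, hσ, rfl⟩⟩, h1 (h3 _)⟩) r hr (h7.trans h4))
    exact fun Y _ _ V _ _ _ K ρ π φ S A hA => h8 Y V ρ _ (fr S) A (by rw [← Subgroup.map_map]; exact map_mono hA)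

end Cfsg.Agent.TwoF.SpC
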