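import Cfsg.Agent.TwoF.SpC.Cal
import Cfsg.Agent.FS.Real.PermM

/-!
# TwoF SP-C : kernel checks for elementary abelian subgroups of a polycyclic 2-group and for products (helper83)
-/

set_option autoImplicit false

namespace Cfsg.Agent.TwoF.SpC

open Cfsg Subgroup Cfsg.Agent.TwoF.Gen Cfsg.Agent.FS.Real

/-- quantifier over a table -/
noncomputable def allP (T : List (ℕ × ℕ)) (f : ℕ → ℕ → Bool) : Bool := List.rec true (fun p _ r => f p.1 p.2 && r) T

theorem allP_spec {f : ℕ → ℕ → Bool} : ∀ {T : List (ℕ × ℕ)}, allP T f = true → ∀ p ∈ T, f p.1 p.2 = true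
  | [], _, _, h => nomatch h
  | q :: T, h, p, hp => by
    have h1 : (f q.1 q.2 && allP T f) = true := h
    rw [Bool.and_eq_true] at h1
    rcases List.mem_cons.1 hp with rfl | hp
    exacts [h1.1, allP_spec h1.2 p hp]

/-- the number of the keys in the set `M` -/
noncomputable def cnt (T : List (ℕ × ℕ)) (M : ℕ) : ℕ :=
  force M fun M => List.rec 0 (fun p _ r => bif tb M p.1 then Nat.succ r else r) T

theorem cnt_cons (p : ℕ × ℕ) (T : List (ℕ × ℕ)) (M : ℕ) :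
    cnt (p :: T) M = bif tb M p.1 then Nat.succ (cnt T M) else cnt T M := by
  unfold cnt
  rw [force_eq, force_eq]

theorem card_le_cnt {M : ℕ} : ∀ (T : List (ℕ × ℕ)) (F : Finset ℕ), (∀ a ∈ F, (∃ m, (a, m) ∈ T) ∧ tb M a = true) →
    F.card ≤ cnt T M
  | [], F, h => by
    rw [Finset.eq_empty_of_forall_notMem (s := F) fun a ha => by obtain ⟨⟨_, h1⟩, -⟩ := h a ha; cases h1]
    exact Nat.zero_le _
  | p :: T, F, h => by
    have h1 := card_le_cnt T (F.erase p.1) fun a ha => by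
      obtain ⟨⟨m, h1⟩, h2⟩ := h a (Finset.mem_of_mem_erase ha)
      exact ⟨⟨m, (List.mem_cons.1 h1).resolve_left fun e => Finset.ne_of_mem_erase ha (congrArg Prod.fst e)⟩, h2⟩
    rw [cnt_cons]
    by_cases hp : p.1 ∈ F
    · rw [(h _ hp).2, cond_true, ← Finset.card_erase_add_one hp]
      exact Nat.succ_le_succ h1
    · rw [Finset.erase_eq_of_notMem hp] at h1
      cases tb M p.1
      exacts [h1, Nat.le_succ_of_le h1]

/-- the set of the keys with the property `f` -/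
noncomputable def msk (T : List (ℕ × ℕ)) (f : ℕ → ℕ → Bool) : ℕ :=
  List.rec 0 (fun p _ r => bif f p.1 p.2 then r ||| 2 ^ p.1 else r) T

theorem tb_or (a b k : ℕ) : tb (a ||| b) k = (tb a k || tb b k) := by rw [tb_eq, tb_eq, tb_eq, Nat.testBit_or]

theorem tb_and (a b k : ℕ) : tb (a &&& b) k = (tb a k && tb b k) := by rw [tb_eq, tb_eq, tb_eq, Nat.testBit_and]

theorem tb_msk {f : ℕ → ℕ → Bool} {a : ℕ} : ∀ {T : List (ℕ × ℕ)},
    tb (msk T f) a = true ↔ ∃ m, (a, m) ∈ T ∧ f a m = true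
  | [] => by
    rw [show msk [] f = 0 from rfl, tb_eq, Nat.zero_testBit]
    simp
  | p :: T => by
    rw [show msk (p :: T) f = bif f p.1 p.2 then msk T f ||| 2 ^ p.1 else msk T f from rfl]
    cases h : f p.1 p.2
    · rw [cond_false, tb_msk]
      refine exists_congr fun m => ⟨fun e => ⟨List.mem_cons_of_mem _ e.1, e.2⟩, fun e => ⟨?_, e.2⟩⟩
      refine (List.mem_cons.1 e.1).resolve_left fun e' => ?_
      rw [← e', e.2] at h
      cases h
    · rw [cond_true, tb_or, Bool.or_eq_true, tb_msk, tb_eq, Nat.testBit_two_pow, decide_eq_true_eq]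
      constructor
      · rintro (⟨m, e1, e2⟩ | rfl)
        exacts [⟨m, List.mem_cons_of_mem _ e1, e2⟩, ⟨p.2, List.mem_cons_self, h⟩]
      · rintro ⟨m, e1, e2⟩
        rcases List.mem_cons.1 e1 with e | e
        exacts [Or.inr (by rw [← e]), Or.inl ⟨m, e, e2⟩]

/-- no `k` pairwise commuting elements in `M`: repeated removal of the elements with few neighbours -/
noncomputable def nb (T : List (ℕ × ℕ)) (k n : ℕ) : ℕ → Bool :=
  Nat.rec (fun M => Nat.blt (cnt T M) k)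
    (fun _ r M => force M fun M => r (msk T fun a m => tb M a && Nat.ble k (cnt T (m &&& M)))) n

/-- the table of the involutions -/
noncomputable def tabOk (D : PcD) (T : List (ℕ × ℕ)) : Bool :=
  (force (msk T fun _ _ => true) fun M => allB (2 ^ D.n) fun a => Nat.beq a 0 || tb M a || !Nat.beq (D.mul a a) 0) &&
    allP T fun a m => Nat.blt a (2 ^ D.n) && allP T fun b _ => tb m b || !Nat.beq (D.mul a b) (D.mul b a)

/-- closure under conjugation -/
noncomputable def cls (D : PcD) (T : List (ℕ × ℕ)) (n M : ℕ) : ℕ :=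
  Nat.rec M (fun _ r => List.rec (fun M => M) (fun p _ r M => force M fun M =>
    r (bif tb M p.1 then Nat.rec M (fun i r => r ||| 2 ^ D.cjg i p.1) D.n else M)) T r) n

variable {Γ : Type} [Group Γ] {D : PcD} {S G H E : Subgroup Γ} {x : ℕ → Γ} {T : List (ℕ × ℕ)}

theorem tab_mem (J : Gen D S x) (hT : tabOk D T = true) (hA : IsElementaryAbelian 2 E) {a : ℕ} (ha : a < D.N)
    (h0 : a ≠ 0) (h : el x D.n a ∈ E) : ∃ m, (a, m) ∈ T := by
  unfold tabOk at hT
  rw [Bool.and_eq_true, force_eq] at hT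
  have h1 := allB_spec hT.1 ha
  rw [Bool.or_eq_true, Bool.or_eq_true, tb_msk] at h1
  rcases h1 with (h1 | ⟨m, h1, -⟩) | h1
  · exact absurd (beq_eq h1) h0
  · exact ⟨m, h1⟩
  · exact absurd (J.eq_zero (D.mul_lt ha a) (by rw [← J.mul ha, ← pow_two, hA.2 _ h])) (nbeq_ne h1)

theorem tab_comm (J : Gen D S x) (hT : tabOk D T = true) (hA : IsElementaryAbelian 2 E) {a m b : ℕ}
    (ha : (a, m) ∈ T) (h1 : el x D.n a ∈ E) (hb : b < D.N) (h0 : b ≠ 0) (h2 : el x D.n b ∈ E) : tb m b = true := by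
  obtain ⟨m', h3⟩ := tab_mem J hT hA hb h0 h2
  unfold tabOk at hT
  rw [Bool.and_eq_true] at hT
  have h4 := allP_spec hT.2 _ ha
  rw [Bool.and_eq_true] at h4
  have h5 := allP_spec h4.2 _ h3
  rw [Bool.or_eq_true] at h5
  refine h5.resolve_right fun e => nbeq_ne e (J.inj (D.mul_lt (blt_lt h4.1) _) (D.mul_lt hb _) ?_)
  rw [← J.mul (blt_lt h4.1), ← J.mul hb, elemAb_comm hA h1 h2]

theorem nb_card (J : Gen D S x) (hT : tabOk D T = true) (hE : E ≤ S) (hA : IsElementaryAbelian 2 E)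
    {f : ℕ → ℕ → Bool} (hf : ∀ a m, (a, m) ∈ T → el x D.n a ∈ E → f a m = true) {k n : ℕ}
    (h : nb T k n (msk T f) = true) : Nat.card E ≤ k := by
  classical
  let F := (Finset.range D.N).filter fun a => a ≠ 0 ∧ el x D.n a ∈ E
  have h1 : ∀ a ∈ F, a < D.N ∧ a ≠ 0 ∧ el x D.n a ∈ E := fun a ha => by
    simpa only [F, Finset.mem_filter, Finset.mem_range] using ha
  have h2 : ∀ a ∈ F, ∃ m, (a, m) ∈ T := fun a ha => tab_mem J hT hA (h1 a ha).1 (h1 a ha).2.1 (h1 a ha).2.2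
  have h3 : Nat.card E ≤ F.card + 1 := by
    refine le_trans ?_ ((Finset.card_image_le (f := el x D.n)).trans (Finset.card_insert_le 0 F))
    rw [← Set.ncard_coe_finset, ← SetLike.coe_sort_coe, Nat.card_coe_set_eq]
    refine Set.ncard_le_ncard (fun g hg => ?_) (Finset.finite_toSet _)
    obtain ⟨a, ha, rfl⟩ := (J.mem g).1 (hE hg)
    refine Finset.mem_image_of_mem _ (Finset.mem_insert.2 (or_iff_not_imp_left.2 fun e => ?_))
    exact Finset.mem_filter.2 ⟨Finset.mem_range.2 ha, e, hg⟩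
  have h4 : ∀ n M, (∀ a ∈ F, tb M a = true) → nb T k n M = true → F.card < k := fun n => by
    induction n with
    | zero => exact fun M hM e => (card_le_cnt T F fun a ha => ⟨h2 a ha, hM a ha⟩).trans_lt (blt_lt e)
    | succ n ih =>
      intro M hM e
      rw [show nb T k (n + 1) M = force M fun M => nb T k n
        (msk T fun a m => tb M a && Nat.ble k (cnt T (m &&& M))) from rfl, force_eq] at e
      by_contra hk
      refine hk (ih _ (fun a ha => ?_) e)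
      obtain ⟨m, hm⟩ := h2 a ha
      refine tb_msk.2 ⟨m, hm, ?_⟩
      rw [hM a ha, Bool.true_and, Nat.ble_eq]
      refine (not_lt.1 hk).trans (card_le_cnt T F fun b hb => ⟨h2 b hb, ?_⟩)
      rw [tb_and, hM b hb, tab_comm J hT hA hm (h1 a ha).2.2 (h1 b hb).1 (h1 b hb).2.1 (h1 b hb).2.2]
      rfl
  have h5 := h4 n _ (fun a ha => by
    obtain ⟨m, hm⟩ := h2 a ha
    exact tb_msk.2 ⟨m, hm, hf a m hm (h1 a ha).2.2⟩) h
  omega

/-- a large subgroup contains an element of the set `M` -/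
theorem nb_exists (J : Gen D S x) (hT : tabOk D T = true) (hE : E ≤ S) (hA : IsElementaryAbelian 2 E)
    {f : ℕ → ℕ → Bool} (hf : ∀ a m, (a, m) ∈ T → el x D.n a ∈ E → f a m = true) {M k n : ℕ}
    (h : nb T k n (msk T fun a m => f a m && !tb M a) = true) (hk : k < Nat.card E) :
    ∃ a, tb M a = true ∧ el x D.n a ∈ E := by
  by_contra h1
  refine absurd (nb_card J hT hE hA (fun a m h2 h3 => ?_) h) (not_le.2 hk)
  rw [hf a m h2 h3, Bool.true_and, Bool.not_eq_true', ← Bool.not_eq_true]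
  exact fun e => h1 ⟨a, e, h3⟩

theorem cls_spec (J : Gen D S x) {Pr : Γ → Prop} (hP : ∀ s ∈ S, ∀ g, Pr g → Pr (s * g * s⁻¹)) {M : ℕ}
    (hM : ∀ a, tb M a = true → Pr (el x D.n a)) (n : ℕ) : ∀ a, tb (cls D T n M) a = true → Pr (el x D.n a) := by
  induction n with
  | zero => exact hM
  | succ n ih =>
    suffices h : ∀ (T : List (ℕ × ℕ)) (M : ℕ), (∀ a, tb M a = true → Pr (el x D.n a)) → ∀ a, tb (List.rec
      (motive := fun _ => ℕ → ℕ) (fun M => M) (fun p _ r M => force M fun M =>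
        r (bif tb M p.1 then Nat.rec M (fun i r => r ||| 2 ^ D.cjg i p.1) D.n else M)) T M) a = true →
          Pr (el x D.n a) from h T _ ih
    intro T
    induction T with
    | nil => exact fun M h => h
    | cons p T ih =>
      intro M h
      dsimp only
      rw [force_eq]
      refine ih _ ?_
      cases e : tb M p.1
      · exact h
      · rw [cond_true]
        suffices h' : ∀ k, k ≤ D.n → ∀ a, tb (Nat.rec M (fun i r => r ||| 2 ^ D.cjg i p.1) k) a = true →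
          Pr (el x D.n a) from h' _ le_rfl
        intro k
        induction k with
        | zero => exact fun _ => h
        | succ k ih =>
          intro hk a ha
          rcases Mdl.tb_or_two_pow ha with ha | rfl
          · exact ih (by omega) a ha
          · rw [← J.rel.cjg_sound J.ok hk]
            exact hP _ (J.x_mem hk) _ (h _ e)

theorem cls_seed (J : Gen D S x) {Pr : Γ → Prop} (hP : ∀ s ∈ S, ∀ g, Pr g → Pr (s * g * s⁻¹)) {l : List ℕ}
    (hl : ∀ a ∈ l, Pr (el x D.n a)) {n M : ℕ} (h : Nat.beq (cls D T n (seedM l)) M = true) {a : ℕ}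
    (ha : tb M a = true) : Pr (el x D.n a) :=
  cls_spec J hP (fun a h => hl a (seedM_spec h)) n a (beq_eq h ▸ ha)

/-! ### parity -/

theorem el_mem_of {a : ℕ} : ∀ n, (∀ i, i < n → tb a i = true → x i ∈ G) → el x n a ∈ G
  | 0, _ => G.one_mem
  | n + 1, h => by
    have h1 := el_mem_of n fun i hi => h i (Nat.lt_succ_of_lt hi)
    rw [el_succ]
    cases e : tb a n
    exacts [h1, G.mul_mem h1 (h n (Nat.lt_succ_self _) e)]

theorem even_mem {n a : ℕ} (h : ∀ i, 0 < i → i < n → x i ∈ G) (ha : a % 2 = 0) : el x n a ∈ G :=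
  el_mem_of n fun i hi e => h i (Nat.pos_of_ne_zero fun e' => by
    rw [e', tb, Nat.shiftRight_zero, ha] at e
    cases e) hi

theorem even_of_mem {n a : ℕ} (hn : 0 < n) (h : ∀ i, 0 < i → i < n → x i ∈ G) (h0 : x 0 ∉ G) (ha : el x n a ∈ G) :
    a % 2 = 0 := by
  by_contra e
  rw [show a = 2 ^ 0 + (a - 1) by omega, el_add x (m := 1) (by decide) (by omega), el_two_pow x n hn] at ha
  exact h0 ((mul_mem_cancel_right (even_mem h (by omega))).1 ha)

theorem card_le_two_mul [Finite H] (hi : G.relIndex H = 2) (hE : E ≤ H) :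
    Nat.card E ≤ 2 * Nat.card (E ⊓ G : Subgroup Γ) := by
  have h1 := relIndex_le_of_le_right (H := G) hE (by rw [hi]; decide)
  rw [← (G.subgroupOf E).card_mul_index, mul_comm, ← card_map_of_injective (f := E.subtype) Subtype.val_injective,
    subgroupOf_map_subtype, inf_comm]
  exact Nat.mul_le_mul_right _ (hi ▸ h1)

/-! ### words and products -/

/-- the code of a word -/
noncomputable def wc (M : Mdl Γ) (g : ℕ → ℕ) (w : List ℕ) : ℕ := List.rec M.one (fun i _ r => M.mul (g i) r) w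

/-- the codes of the product of the words and of the product with `b` inserted; the words commute with `a` -/
noncomputable def pv (M : Mdl Γ) (g : ℕ → ℕ) (a b : ℕ) (l : List (List ℕ)) : (ℕ → ℕ → Bool) → Bool :=
  List.rec (fun k => k M.one M.one) (fun w _ r k => force (wc M g w) fun y =>
    M.eqv (M.mul y a) (M.mul a y) && r fun p f => k (M.mul y p) (M.mul (M.mul y b) f)) l

/-- certificate: a power of a product of conjugates of `b` is conjugate to a known element -/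
structure Ct where
  b : ℕ
  l : List (List ℕ)
  e : ℕ
  w : List ℕ
  k : ℕ

/-- the check of a certificate -/
noncomputable def ct (M : Mdl Γ) (g : ℕ → ℕ) (el K B : ℕ → ℕ) (a m c : ℕ) (C : Ct) : Bool :=
  Nat.blt 0 C.l.length && Nat.blt (C.l.length * (c - 1) + m) (B C.k + C.l.length * m) &&
    force a fun a => force (el C.b) fun b => pv M g a b C.l fun p f => M.eqv p M.one &&
      force (wc M g C.w) fun y => force f fun f => M.eqv (M.mul y (M.pw f C.e)) (M.mul (K C.k) y)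

/-- the check of a fusion -/
noncomputable def fu (M : Mdl Γ) (g : ℕ → ℕ) (el : ℕ → ℕ) (z : ℕ) (C : ℕ × List ℕ) : Bool :=
  force (wc M g C.2) fun y => M.eqv (M.mul y (el C.1)) (M.mul z y)

/-- the check of the generators -/
noncomputable def gok (M : Mdl Γ) (g : ℕ → ℕ) (t : ℕ) (W : List (List ℕ)) (X : ℕ → ℕ) (n : ℕ) : Bool :=
  allB n fun i => Nat.beq (X i) (bif Nat.beq i 0 then M.mul (wc M g (W.getD 0 [])) t else wc M g (W.getD i []))

variable {M : Mdl Γ} {g : ℕ → ℕ}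

theorem in_wc (hg : ∀ i, ∃ y ∈ G, M.R (g i) y) : ∀ w, ∃ y ∈ G, M.R (wc M g w) y
  | [] => ⟨1, G.one_mem, M.R_one⟩
  | i :: w => by
    obtain ⟨y, h1, h2⟩ := hg i
    obtain ⟨z, h3, h4⟩ := in_wc hg w
    exact ⟨y * z, G.mul_mem h1 h3, M.R_mul h2 h4⟩

theorem pv_spec (hg : ∀ i, ∃ y ∈ G, M.R (g i) y) {a b : ℕ} {α β : Γ} (ha : M.R a α) (hb : M.R b β) :
    ∀ (l : List (List ℕ)) (k : ℕ → ℕ → Bool), pv M g a b l k = true → ∃ L : List Γ, L.length = l.length ∧
      (∀ y ∈ L, y ∈ G ∧ y * α = α * y) ∧ ∃ p f, M.R p L.prod ∧ M.R f (L.map (· * β)).prod ∧ k p f = true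
  | [], _, h => ⟨[], rfl, fun _ h => (nomatch h), _, _, M.R_one, M.R_one, h⟩
  | w :: l, k, h => by
    rw [show pv M g a b (w :: l) k = force (wc M g w) fun y => M.eqv (M.mul y a) (M.mul a y) &&
      pv M g a b l fun p f => k (M.mul y p) (M.mul (M.mul y b) f) from rfl, force_eq, Bool.and_eq_true] at h
    obtain ⟨y, h1, h2⟩ := in_wc hg w
    obtain ⟨L, h3, h4, p, f, h5, h6, h7⟩ := pv_spec hg ha hb l _ h.2
    refine ⟨y :: L, congrArg Nat.succ h3, fun z hz => ?_, _, _, M.R_mul h2 h5, M.R_mul (M.R_mul h2 hb) h6, h7⟩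
    rcases List.mem_cons.1 hz with rfl | hz
    exacts [⟨h1, M.eq_of (M.R_mul h2 ha) (M.R_mul ha h2) h.1⟩, h4 z hz]

theorem ct_spec (hg : ∀ i, ∃ y ∈ G, M.R (g i) y) {el K B : ℕ → ℕ} {v : ℕ → Γ} (hv : ∀ a, M.R (el a) (v a))
    (hK : ∀ k, ∃ γ, M.R (K k) γ ∧ LE G γ (B k)) {a m c : ℕ} {α : Γ} (ha : M.R a α) (hm : LE G α m) {C : Ct}
    (h : ct M g el K B a m c C = true) (h1 : α ∈ E) (h2 : v C.b ∈ E) : LH G E c := by
  unfold ct at h
  simp only [force_eq, Bool.and_eq_true] at h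
  obtain ⟨L, h3, h4, p, f, h5, h6, h7⟩ := pv_spec hg ha (hv _) _ _ h.2
  rw [Bool.and_eq_true] at h7
  obtain ⟨y, h8, h9⟩ := in_wc hg C.w
  obtain ⟨γ, h10, h11⟩ := hK C.k
  exact LH.pivot h1 h2 L h4 (M.eq_of h5 M.R_one h7.1) hm (LE.of_pow C.e (h11.of_mul_eq h8
    (M.eq_of (M.R_mul h9 (Mdl.R_pw h6 _)) (M.R_mul h10 h9) h7.2))) (h3 ▸ blt_lt h.1.1) (h3 ▸ blt_lt h.1.2)

theorem cts_spec (hg : ∀ i, ∃ y ∈ G, M.R (g i) y) {el K B : ℕ → ℕ} {v : ℕ → Γ} (hv : ∀ a, M.R (el a) (v a))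
    (hK : ∀ k, ∃ γ, M.R (K k) γ ∧ LE G γ (B k)) {a m c : ℕ} {α : Γ} (ha : M.R a α) (hm : LE G α m) {l : List Ct}
    (h : l.all (ct M g el K B a m c) = true) {b : ℕ} (hb : b ∈ l.map Ct.b) (h1 : α ∈ E) (h2 : v b ∈ E) :
    LH G E c := by
  obtain ⟨C, hC, rfl⟩ := List.mem_map.1 hb
  exact ct_spec hg hv hK ha hm (List.all_eq_true.1 h C hC) h1 h2

theorem cts_le (hg : ∀ i, ∃ y ∈ G, M.R (g i) y) {el K B : ℕ → ℕ} {v : ℕ → Γ} (hv : ∀ a, M.R (el a) (v a))
    (hK : ∀ k, ∃ γ, M.R (K k) γ ∧ LE G γ (B k)) {c : ℕ} {l : List Ct}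
    (h : l.all (ct M g el K B M.one 0 c) = true) : ∀ b ∈ l.map Ct.b, LE G (v b) c := fun _ hb =>
  LH.elt (cts_spec hg hv hK M.R_one le_one h hb (one_mem _) (mem_zpowers _))

theorem fu_spec (hg : ∀ i, ∃ y ∈ G, M.R (g i) y) {el : ℕ → ℕ} {v : ℕ → Γ} (hv : ∀ a, M.R (el a) (v a)) {z : ℕ}
    {ζ : Γ} (hz : M.R z ζ) {l : List (ℕ × List ℕ)} (h : l.all (fu M g el z) = true) :
    ∀ b ∈ l.map Prod.fst, ∃ y ∈ G, y * v b * y⁻¹ = ζ := fun b hb => by
  obtain ⟨C, hC, rfl⟩ := List.mem_map.1 hb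
  have h1 := List.all_eq_true.1 h C hC
  rw [fu, force_eq] at h1
  obtain ⟨y, h2, h3⟩ := in_wc hg C.2
  exact ⟨y, h2, by rw [M.eq_of (M.R_mul h3 (hv _)) (M.R_mul hz h3) h1, mul_inv_cancel_right]⟩

theorem exists_gen (hg : ∀ i, ∃ y ∈ G, M.R (g i) y) {t : ℕ} {τ : Γ} (ht : M.R t τ) {W : List (List ℕ)} {X : ℕ → ℕ}
    {n : ℕ} (h : gok M g t W X n = true) (hGH : G ≤ H) (h1 : τ ∈ H) (h2 : τ ∉ G) :
    ∃ x : ℕ → Γ, (∀ i, i < n → M.R (X i) (x i)) ∧ (∀ i, i < n → x i ∈ H) ∧ (∀ i, 0 < i → i < n → x i ∈ G) ∧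
      x 0 ∉ G := by
  choose y h3 h4 using fun i => in_wc hg (W.getD i [])
  refine ⟨fun i => if i = 0 then y 0 * τ else y i, fun i hi => ?_, fun i _ => ?_, fun i hi _ => ?_, ?_⟩
  · rw [beq_eq (allB_spec h hi)]
    rcases i with _ | i
    exacts [M.R_mul (h4 0) ht, h4 (i + 1)]
  · rcases i with _ | i
    exacts [mul_mem (hGH (h3 0)) h1, hGH (h3 (i + 1))]
  · rcases i with _ | i
    exacts [absurd hi (lt_irrefl 0), h3 (i + 1)]
  · exact fun e => h2 ((mul_mem_cancel_left (h3 0)).1 e)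

theorem getD_all {α : Type} {Pr : α → Prop} {d : α} (hd : Pr d) {L : List α} (h : ∀ a ∈ L, Pr a) (i : ℕ) :
    Pr (L.getD i d) := by
  rw [List.getD_eq_getElem?_getD]
  cases e : L[i]?
  exacts [hd, h _ (List.mem_of_getElem? e)]

theorem LE.cj (hN : ∀ g ∈ H, ∀ x ∈ G, g⁻¹ * x * g ∈ G) {s y : Γ} (hs : s ∈ H) {n : ℕ} (h : LE G y n) :
    LE G (s * y * s⁻¹) n := LE.of_conj (hN _ (inv_mem hs)) (by simpa [mul_assoc] using h)

/-- the elementary abelian subgroups of `S` of order `2 ^ r` that contain `z` and `y` -/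
def Gd (G S : Subgroup Γ) (z y : Γ) (r c : ℕ) : Prop :=
  ∀ E ≤ S, IsElementaryAbelian 2 E → z ∈ E → y ∈ E → Nat.card E = 2 ^ r → LH G E c

theorem Gd.cj (hN : ∀ g ∈ H, ∀ x ∈ G, g⁻¹ * x * g ∈ G) (hS : S ≤ H) {s z y : Γ} (hs : s ∈ S) (hz : s * z = z * s)
    {r c : ℕ} (h : Gd G S z y r c) : Gd G S z (s * y * s⁻¹) r c := fun E h1 h2 h3 h4 h5 =>
  LH.of_conj (hN _ (inv_mem (hS hs))) (h _ (by
    rintro _ ⟨u, hu, rfl⟩
    exact mul_mem (mul_mem (inv_mem hs) (h1 hu)) (inv_mem (inv_mem hs))) (elemAb_map h2 _)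
    ⟨z, h3, by simp [mul_assoc, ← hz]⟩ ⟨_, h4, by simp [mul_assoc]⟩ (by rw [card_map_conj, h5]))

theorem le_of_pow_le {r k e : ℕ} (h : Nat.card E = 2 ^ r) (h1 : Nat.card E ≤ k) (h2 : k < 2 ^ (e + 1)) : r ≤ e :=
  Nat.le_of_lt_succ ((Nat.pow_lt_pow_iff_right one_lt_two).1 ((h ▸ h1).trans_lt h2))

/-- an outer element -/
theorem exists_odd (J : Gen D S x) (hT : tabOk D T = true) (hE : E ≤ S) (hA : IsElementaryAbelian 2 E)
    (hx : ∀ i, 0 < i → i < D.n → x i ∈ G) (h : ¬ E ≤ G) {M : ℕ}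
    (hM : allP T (fun a _ => Nat.beq (a % 2) 0 || tb M a) = true) : ∃ a, tb M a = true ∧ el x D.n a ∈ E := by
  obtain ⟨u, h1, h2⟩ := SetLike.not_le_iff_exists.1 h
  obtain ⟨a, ha, rfl⟩ := (J.mem u).1 (hE h1)
  obtain ⟨m, hm⟩ := tab_mem J hT hA ha (fun e => h2 (even_mem hx (by rw [e]))) h1
  exact ⟨a, (Bool.or_eq_true _ _ ▸ allP_spec hM _ hm).resolve_left fun e => h2 (even_mem hx (beq_eq e)), h1⟩

/-- tables of permutations -/
theorem inG_R {n P : ℕ} (hn : n ≤ 2 ^ 11) {G : Subgroup (Equiv.Perm (Fin n))}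
    (h : ∃ g ∈ G, ∀ i : Fin n, (g i : ℕ) = Nat.land (Nat.shiftRight P (Nat.mul 11 i)) 2047) :
    ∃ y ∈ G, (mSym 11 n hn).R P y := by
  obtain ⟨g, h1, h2⟩ := h
  exact ⟨g, h1, fun p => (h2 p).trans (Nat.and_two_pow_sub_one_eq_mod _ 11)⟩

end Cfsg.Agent.TwoF.SpC
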