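import Cfsg.Agent.TwoF.SpC.Odd
import Cfsg.Agent.TwoF.SpE.T2

/-!
# TwoF SP-C : more tools (helper83)
-/

set_option autoImplicit false

namespace Cfsg.Agent.TwoF.SpC

open Cfsg Subgroup Cfsg.Agent.TwoF.Gen Cfsg.Agent.TwoF.XE Cfsg.Agent.FS.Real

section two

variable {Γ : Type} [Group Γ] {D : PcD} {S G H E : Subgroup Γ} {x : ℕ → Γ} {T : List (ℕ × ℕ)}

/-- two levels: a large subgroup contains an element of the set `M` -/
theorem nb_exists2 (J : Gen D S x) (hT : tabOk D T = true) (hE : E ≤ S) (hA : IsElementaryAbelian 2 E) {M w k n : ℕ}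
    (h : allP T (fun a _ => tb M a || Nat.beq a w || nb T k n (msk T fun b m => tb m a && !tb M b)) = true)
    (h2 : 2 ≤ k) (hk : k < Nat.card E) : ∃ a, tb M a = true ∧ el x D.n a ∈ E := by
  obtain ⟨u, h3, h4⟩ : ∃ u ∈ E, u ∉ ({1, el x D.n w} : Set Γ) := by
    by_contra! e
    have h5 := (Set.ncard_le_ncard (show (E : Set Γ) ⊆ {1, el x D.n w} from e) (Set.toFinite _)).trans (Set.ncard_insert_le _ _)
    rw [Set.ncard_singleton, ← Nat.card_coe_set_eq, SetLike.coe_sort_coe] at h5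
    omega
  obtain ⟨a, ha, rfl⟩ := (J.mem u).1 (hE h3)
  have h5 : a ≠ 0 := fun e => h4 (Or.inl (e ▸ el_nil x _))
  obtain ⟨m, hm⟩ := tab_mem J hT hA ha h5 h3
  have h6 := allP_spec h _ hm
  rw [Bool.or_eq_true, Bool.or_eq_true] at h6
  rcases h6 with (h6 | h6) | h6
  · exact ⟨a, h6, h3⟩
  · exact absurd (Or.inr (congrArg (el x D.n) (beq_eq h6))) h4
  · exact nb_exists J hT hE hA (fun b m f1 f2 => tab_comm J hT hA f1 f2 ha h5 h3) h6 hk

theorem central_of (J : Gen D S x) {z : ℕ} (hz : z < D.N)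
    (h : allB D.n (fun i => Nat.beq (D.mul (2 ^ i) z) (D.mul z (2 ^ i))) = true) :
    ∀ s ∈ S, s * el x D.n z = el x D.n z * s := fun _ hs =>
  mem_centralizer_singleton_iff.1 (J.le_of (A := centralizer {el x D.n z}) (fun i hi =>
    mem_centralizer_singleton_iff.2 (by
      rw [← el_two_pow x _ hi, J.mul (D.two_pow_lt hi), J.mul hz, beq_eq (allB_spec h hi)])) hs)

/-- one may assume that the group contains the central involution -/
theorem wlog_z [Finite H] (hN : ∀ g ∈ H, ∀ x ∈ G, g⁻¹ * x * g ∈ G) (hP : IsPGroup 2 S) (hS : S ≤ H)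
    (hi : ¬ 2 ∣ S.relIndex H) {z : Γ} (hz : ∀ s ∈ S, s * z = z * s) (hE : E ≤ H) (hA : IsElementaryAbelian 2 E)
    (h0 : ¬ E ≤ G) {t y : Γ} (ht : t ∈ E) (hy : y ∈ H) (e : y * t * y⁻¹ = z) {c : ℕ}
    (h : ∀ E' ≤ S, IsElementaryAbelian 2 E' → ¬ E' ≤ G → z ∈ E' → Nat.card E' = Nat.card E → LH G E' c) :
    LH G E c := by
  have h1 := elemAb_map hA (MulAut.conj y).toMonoidHom
  have h2 : z ∈ E.map (MulAut.conj y).toMonoidHom := ⟨t, ht, e⟩
  obtain ⟨g, hg, h3, h4⟩ := exists_conj_cent hP hS hi hz (elemAb_isPGroup h1) (by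
    rintro _ ⟨u, hu, rfl⟩
    exact mul_mem (mul_mem hy (hE hu)) (inv_mem hy)) fun s hs => elemAb_comm h1 hs h2
  exact LH.of_conj (hN y hy) (LH.of_conj (hN g hg) (h _ h4 (elemAb_map h1 _) (not_le_conj hN hg (not_le_conj hN hy h0))
    ⟨z, h2, h3⟩ (by rw [card_map_conj, card_map_conj])))

end two

variable {p : ℕ} [hp : Fact p.Prime] {S : Type} [Group S]

/-- two conjugates of `t` generate a group that contains a group of order 9 -/
theorem li_four {z : ℕ} (hz : Zc p S z) (h3 : Nat.Coprime 3 z) (hp3 : 3 ≠ p)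
    (h : ∀ x : S, x ≠ 1 → x ^ 3 = 1 → Li p x 6) {t t' g a b : S} (hg : g * t = t' * g)
    (ha : a ∈ zpowers t ⊔ zpowers t') (hb : b ∈ zpowers t ⊔ zpowers t') (hc : a * b = b * a) (a3 : a ^ 3 = 1)
    (b3 : b ^ 3 = 1) (h0 : b ≠ 1) (h1 : ∀ i < 3, a * b ^ i ≠ 1) : Li p t 4 :=
  le_of_elt fun Y _ _ V _ _ _ K ρ π φ H y hy => by
    obtain ⟨k, rfl⟩ := H.surj g
    have key : ∀ s ∈ zpowers t ⊔ zpowers t', s ^ 3 = 1 →
        ∃ u ∈ zpowers y ⊔ zpowers (k * y * (k : Y)⁻¹), φ u = MulAut.conj s ∧ u ^ 3 = 1 := fun s hs e => by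
      obtain ⟨u, h4, h5⟩ : MulAut.conj s ∈ (zpowers y ⊔ zpowers (k * y * (k : Y)⁻¹)).map φ := by
        refine sup_le (a := zpowers t) (b := zpowers t') (c := comap MulAut.conj (map φ _))
          (zpowers_le.2 ⟨y, mem_sup_left (mem_zpowers y), hy⟩) (zpowers_le.2 ⟨_, mem_sup_right (mem_zpowers _), ?_⟩) hs
        rw [map_mul, map_mul, map_inv, H.toFrm.φ_coe, hy, ← map_inv, ← map_mul, ← map_mul, hg, mul_inv_cancel_right]
      obtain ⟨v, h6, h7, h8⟩ := hz.exists_lift H h3 (y := u) (by rw [h5, ← map_pow, e, map_one])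
      exact ⟨v, zpowers_le.2 h4 h6, h7.trans h5, h8⟩
    obtain ⟨u, u1, u2, u3⟩ := key a ha a3
    obtain ⟨v, v1, v2, v3⟩ := key b hb b3
    have h4 : u * v = v * u := by
      rw [← mul_inv_eq_iff_eq_mul]
      refine (hz.lift_unique H h3 ⟨b, v2.symm⟩ ?_ v3 (by rw [conj_pow, v3, mul_one, mul_inv_cancel])).symm
      rw [map_mul, map_mul, map_inv, u2, v2, ← map_inv, ← map_mul, ← map_mul, hc, mul_inv_cancel_right]
    have h5 := sum_cod_rank_two (ρ := ρ) h4 Nat.prime_three (cast_ne_zero Nat.prime_three hp3) u3 v3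
    have h6 : ∀ i < 3, 6 ≤ cod ρ (zpowers (u * v ^ i)) := fun i hi =>
      (h _ (h1 i hi) ((elemAb_two hc a3 b3).2 _ (mul_mem (mem_sup_left (mem_zpowers a))
        (pow_mem (mem_sup_right (mem_zpowers b)) i)))).elt H (by rw [map_mul, map_pow, u2, v2, map_mul, map_pow])
    have h7 := (h b h0 b3).elt H v2
    have h8 := (cod_mono (ρ := ρ) (sup_le (zpowers_le.2 v1) (zpowers_le.2 u1))).trans (cod_sup_le _ _)
    rw [cod_zpowers_conj] at h8
    simp only [Finset.sum_range_succ, Finset.sum_range_zero] at h5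
    have := h6 0 (by decide)
    have := h6 1 (by decide)
    have := h6 2 (by decide)
    omega

/-- rank at most two -/
theorem row_rank_two (ho : ¬ p ∣ Nat.card (Out S))
    (h1 : ∀ E : Subgroup S, IsElementaryAbelian p E → ∀ j, 2 ≤ j → Nat.card E = p ^ j → j = 2)
    (h2 : ∀ t : S, t ≠ 1 → t ^ p = 1 → Li p t 4) : Row p S := by
  refine ⟨row88_of_sit fun Y _ _ V _ _ _ K ρ π φ H A hA => ⟨A, hA, by_contra fun hc => hc ?_⟩, row89_of_not_dvd ho⟩
  obtain ⟨j, -, h5, -⟩ := hA.exists_card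
  have h3 := SpD.card_img H (elemAb_isPGroup hA.1)
  have h4 := H.toFrm.le_of_not_dvd (elemAb_isPGroup hA.1) ho
  rw [relIndex_eq_one.2 h4, mul_one, h5] at h3
  have h6 := (Nat.pow_dvd_pow_iff_le_right hp.out.one_lt).1 (h5 ▸ hA.pow_dvd_of_not_cub hc)
  have h7 := one_le_small p
  obtain rfl := h1 _ (SpD.elemAb_img hA.1) j (by omega) h3
  refine SpE.cub_of_sq hA h5 fun a ha h5 => ?_
  have h8 := SpE.ord_img H (x := ⟨a, h4 ha⟩) (hA.1.2 a ha) h5
  exact (h2 _ (fun e => hp.out.one_lt.ne (by rw [← h8, e, orderOf_one])) (h8 ▸ pow_orderOf_eq_one _)).elt H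
    (H.toFrm.φ_coe ⟨a, h4 ha⟩)

end Cfsg.Agent.TwoF.SpC
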