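import Cfsg.Agent.TwoF.SpC.HSTwo
import Cfsg.Agent.H55.OutGen
import Cfsg.Agent.S2072

/-!
# TwoF SP-C : the row of the Higman-Sims group (helper83; the data are generated)
-/

set_option autoImplicit false
set_option maxRecDepth 100000
set_option maxHeartbeats 400000

namespace Cfsg.Agent.TwoF.SpC

open Cfsg Subgroup Cfsg.Agent.TwoF.Gen Cfsg.Agent.FS.Real Cfsg.Agent.H859 Cfsg.Agent.TwoF.XE
open Cfsg.Agent.HN.HS100 Cfsg.Agent.HN.AutBound Cfsg.Agent.HN.AutHS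

namespace HS

/-- the model of the simple group -/
noncomputable abbrev N : Mdl Q := subM MM Q

theorem hg' (i : ℕ) : ∃ y ∈ (⊤ : Subgroup Q), N.R (gt i) y := by
  obtain ⟨y, h1, h2⟩ := hg i
  exact ⟨⟨y, h1⟩, mem_top _, h2⟩

/-- the codes -/
def L : ℕ → ℕ := get 1100 0x9014c1700e0be044020180540b01903a0c60280601002a1601b8510381741e81a062128258570800902f05b04a0200f81b0b80f81682b0c01481e00f0a01680b80d0660142485501209c268360721101a8280c21080100609802c1784f0020780e82008e08c1103f05205831034026150228120000ec0a03003200c1082600e1182c84e0ac10c2083801a0081c02c0840f40903f07800c3104e0680202301f0641602381b0380e43002d0b41341886308001c0d051032178178290761240502b03a0580302e02e1702a0560021641400f0400dc0281105409c220230b60380c05d07c1200f00c0a00c01b01306a1300a0430c213c110250740cc2504100012c0a8100ae17c2a80b0081482280904c14c1202102a1802e01e0800341985100a0f01e862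02e0902f0460240c80104904a1082504e0521681700e0440b0240470a401c1c80305e0001a81006e150040260ac14c0504f082160098090540ec0d80608816c308310960d80d05f0b21140c0340860fc2801d0280b40b01f0180f82b83a09a080118300ba03c13821070010140110380043182b0321540584c07c00c3082e0a00d41f85c03005c1c056024044228420a41240b01408e008130200661342985904a0281e8410320000204006e0202a82f02a040140480ba0340e0390580ec1884600e0740984b0561442183405a1282784e0461881080907406c3005e01816c1481a0020a81905f04e0182c01f01e0380581e06c0c02606307815c028440440902d05405a0a8308590b60c00302303006c1084802e1601b0270880b02584304a1681c0130380441d00f07614c1e8620520801f06006e1442a83c0a41082481d0040340f82205011c0a0080b8158000320561181884c0081001a83f00e178130390140482504103c17c0d0190021500b0500201382683305c0bc2282401613c3183401c15c028150120302e8030821000881f06a0802b0180180100d8060501200706002c0c82902900e074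1303909e10c3082e016020230220c4068288010060081e04e0a61101c00f01209c0902a05a1301d05f0281142580506805c248470ae0781202f0ba0c02a8230000d82104d0b816c1581001a1603183e06e1682805902a0282a03f0380941d85e0660b00983107a084250190c61342404004012c2a0090000982c8450920701781e07c0c40585c0940e00b04c04a0340980205801c1b8510560fc2303a0540b40500c0861802382e0b016c1e8050aa05404004066138298390761081482201c06c2f01d064044108140481740f8170b40d00c8300ac1881185f0ae09c140100780482780f0880d4280520820180d0180061840083602e0fc1a84803a0cc100570b80400c01a0a61782284d05413c0f84400e0782505207c1440181c06e054160630641242585004e08c058430b20e40d8210081082a82404a0d0010580821301c06102416c0882b0be0500703c05e138230190a803c31009052018188010800c01680801a0f41d02600a158238360500ec0005a05c05811013018174050600bc0d00380207c0ec048280400880b8210b41381705b05a03c300050340dc2e8180540b00603806c1043103c0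4e0c41281e00c0bc0184f03a17c2004d0981841803f0880502c84302a058070490321540505100011c1201109402c1c80402618c008290a014c2100801a0d41d03307a06c240120a80c80e05c0ac0ac2305704c1140801f0a408c2c04b08a0000d8440201782d0600c403c100580320101c85405e08c2903805c0541281d0180440a0090c60880283e0300c01d02807e1702083300e0c8270160b21440085702e0f4148020a613c2182d01c1741884a0a00842303706c1343082403807c2600304c0200582c02409c2a83b0b60f02002b05417c2b04b0681082401a0920342380603c0281a81308216c2305c00607c248340700942a8580320f80b86208603c0d81608e0301982806c1101303c0740dc2784a0a60683180607e02c188230961142e8540120480081d09a0141e82c05a0a42100a0bc120190400260e4120070540842705203c0ac3001c0a20bc0880202809c100590a00ec0200e02a17c2b02201a020308300b4130170570200601a80005216c090400bc0ac1980b0a00300d858088074240380140541286207a1542903406e0f80484e0620e4238110580082080407e0341d02109213c1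b0270401181a81904c0c8228530840b8168080be1680285c0a81740383c02808c1204b03c0400300302e068260180b20002682202c03c2b81f0c20702502a0500c01d8430a21583186001c0bc008130c604c1303e02007c1b85702c0901505800c02c0a0620600242a80007a08c248600c20641c82208a054188560581081700d07e1301d01708c13c2685b0241481a8400401042380a05e0c80c00803c084148110a012c2401b00e0942c80f0060381405f0b40b40201a0180e01d8510a81740e81c0660ac1a03c08814c1b04309c1700284a0bc0080082708e1180f01009618c030440440101a85105203c2c8420ba08c1b028042154098410561001d82708a0200285f064028160380240301d0330ae060008480721481200707e1300a00201a0701e8430b8168058090941840004e0b00940f8370060b81682609e16c1a01d078140100190c405c0b00e0a60f8150600920c00884d0621582f02f0361500a81a0280942a84d0040c41380a0561581c80900a1001b80c0901400885a07e0802d81d0a80d8238580320001a0300741801685205c1182486108a0ec0d8230060580084303c0602600e0a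60d40583d0840182f0040a2138220150501700901f02e1641482406612c1605704c0a810841044070068130701882e8080c60401781a0641280380f0780f82785f08e020018620c00b4048460881282c8280bc0d81e05c0700a82980605c0801286304409c1a0230860ac2b84b00e0381601606a16c228370300c81c8560c2144278050660740585401e0041e83b0600342085205e1380d01c0800f80a81f02e0780a01203604c1d02904c044120190040842405f0b40302c00a09200002010098174188500aa1341f8420281500e00e0c01300b00004a03c130270640e01201001a0a0030040aa004310290141402485d08e0ac1d8080680c01682306e16c1e81207410c2704802a1681e04503e0140e81a02200c0582c088100188090540d40601b0b01180f04f07e05c2f0390401700c80705c1581984107c164250020a612c1b0130c617c288220ae1480c02f04213430842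

theorem ex : ∃ v : ℕ → Q, ∀ i, i < 17 → N.R (L i) (v i) :=
  sub_gen hg (W := [[7, 1, 2, 6, 4, 10, 7, 5, 9, 9, 7], [7, 1, 2, 9, 8, 10, 5, 10], [5, 8, 1, 0, 9, 4, 5, 3, 9, 8, 7, 5, 5, 8, 9, 10],
    [6, 0, 2, 10, 9, 4, 3, 10, 9, 6, 5, 10, 7, 10, 10], [2, 2, 6, 10, 4, 6, 5, 5, 9, 10, 8, 10], [0, 1, 0, 7, 3, 8,
    3, 5, 9, 10, 10], [7, 4, 5, 3, 9, 7, 5, 5, 9], [0, 1, 0, 3, 4, 3, 5, 9, 5, 5, 10, 9, 8, 7, 10], [3, 1, 1, 5, 7,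
    3, 3, 6, 5, 5, 5, 9, 8], [7, 0, 1, 10, 9, 4, 3, 7, 6, 5, 5, 10, 9, 10], [3, 2, 1, 8, 4, 8, 5, 5, 5, 10, 7, 9, 8,
    10, 10], [0, 1, 1, 0, 5, 4, 3, 3, 6, 10, 5, 8, 7, 9, 8, 10], [2, 10, 1, 0, 10, 3, 3, 8, 6, 5, 5, 10, 8, 10, 10],
    [9, 4, 1, 0, 3, 8, 3, 10, 7, 5, 10, 9, 10, 8, 10], [3, 4, 1, 5, 4, 5, 9, 5, 5, 9, 9, 8, 7], [0, 3, 0, 4, 5, 3,
    3, 5, 10, 6, 5, 8, 10, 10], [2, 3, 1, 0, 3, 7, 5, 3, 8, 5, 5, 9, 10, 8]]) (by decide +kernel)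

/-- the check for two conjugates -/
noncomputable def ck4 (t g t' b : ℕ) (w : List ℕ) (e : ℕ) (w' : List ℕ) : Bool :=
  force (N.pw (wc N (fun i => bif Nat.beq i 0 then t else t') w) e) fun a =>
    force (wc N (fun i => bif Nat.beq i 0 then t else t') w') fun u =>
      N.eqv (N.mul g t) (N.mul t' g) && N.eqv (N.mul u a) (N.mul b u) && N.eqv (N.mul a b) (N.mul b a) &&
        N.eqv (N.pw a 3) N.one && N.eqv (N.pw b 3) N.one && N.neq b N.one &&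
          allB 3 fun i => N.neq (N.mul a (N.pw b i)) N.one

theorem four {ct cg ct' cb : ℕ} {t g t' b : Q} (ht : N.R ct t) (hg : N.R cg g) (ht' : N.R ct' t') (hb : N.R cb b)
    [Fact (Nat.Prime 5)] (h3 : ∀ x : Q, x ≠ 1 → x ^ 3 = 1 → Li 5 x 6) (w : List ℕ) (e : ℕ) (w' : List ℕ)
    (h : ck4 ct cg ct' cb w e w' = true) : Li 5 t 4 := by
  have h1 : ∀ i, ∃ y ∈ zpowers t ⊔ zpowers t', N.R (bif Nat.beq i 0 then ct else ct') y := fun i => by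
    cases Nat.beq i 0
    exacts [⟨_, mem_sup_right (mem_zpowers _), ht'⟩, ⟨_, mem_sup_left (mem_zpowers _), ht⟩]
  obtain ⟨a, a1, a2⟩ := in_wc h1 w
  obtain ⟨u, u1, u2⟩ := in_wc h1 w'
  have a3 := Mdl.R_pw a2 e
  unfold ck4 at h
  simp only [force_eq, Bool.and_eq_true] at h
  obtain ⟨⟨⟨⟨⟨⟨e1, e2⟩, e3⟩, e4⟩, e5⟩, e6⟩, e7⟩ := h
  exact li_four (zc 5) (by decide) (by decide) h3 (N.eq_of (N.R_mul hg ht) (N.R_mul ht' hg) e1) (pow_mem a1 e)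
    ((mul_mem_cancel_right u1).1 (N.eq_of (N.R_mul u2 a3) (N.R_mul hb u2) e2 ▸ mul_mem u1 (pow_mem a1 e)))
    (N.eq_of (N.R_mul a3 hb) (N.R_mul hb a3) e3) (N.eq_of (Mdl.R_pw a3 3) N.R_one e4)
    (N.eq_of (Mdl.R_pw hb 3) N.R_one e5) (N.ne_of hb N.R_one e6)
    fun i hi => N.ne_of (N.R_mul a3 (Mdl.R_pw hb i)) N.R_one (allB_spec e7 hi)

/-- the elements of the Sylow 5-subgroup -/
noncomputable def e5 (n : ℕ) : ℕ := N.mul (N.mul (N.pw (L 0) (n % 5)) (N.pw (L 1) (n / 5 % 5))) (N.pw (L 2) (n / 25))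

/-- the class `5A` -/
def fA : List (ℕ × List ℕ) := [(25, [0, 1, 0, 7, 3, 4, 5, 10, 7, 5, 9, 8]), (50, [1, 1, 0, 4, 5, 3, 9, 9, 6, 5, 10, 7, 10, 10]), (75, [6, 2, 6,
  10, 4, 8, 9, 6, 5, 10, 9, 7]), (100, [3, 1, 1, 10, 9, 4, 3, 10, 6, 5, 10, 9])]

/-- the class `5C` -/
def fC : List (ℕ × List ℕ) := [(1, [7, 0, 1, 3, 10, 4, 3, 10, 6, 8, 10, 7, 10, 10]), (2, [2, 1, 2, 4, 4, 9, 6, 5, 5, 10, 8]), (3, [0, 1, 0, 6, 4,
  5, 3, 8, 5, 5, 5, 10, 7, 9, 8]), (4, [6, 0, 2, 7, 4, 3, 3, 10, 9, 6, 5, 5, 10, 8, 10, 10]), (5, [0, 3, 1, 10, 6,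
  4, 5, 7, 5, 5, 10, 8]), (6, [10, 1, 0, 3, 7, 4, 10, 5, 6, 5, 8, 7, 9, 8]), (9, [6, 2, 4, 10, 4, 3, 7, 6, 5, 5, 9,
  9, 8, 10, 10]), (10, [7, 1, 1, 7, 4, 3, 5, 7, 9, 8, 10, 10]), (12, [2, 7, 5, 3, 3, 5, 8, 5, 5, 9, 9, 7, 10]), (13,
  [5, 2, 2, 9, 4, 5, 3, 9, 8, 5, 5, 8, 7, 10]), (15, [4, 1, 9, 3, 3, 5, 10, 10, 5, 9, 7, 9, 10, 10]), (17, [8, 0, 1,
  7, 5, 3, 3, 6, 5, 7, 9, 7, 10]), (18, [4, 1, 0, 5, 4, 5, 3, 6, 10, 10, 5, 9, 10, 10]), (20, [8, 1, 5, 4, 7, 5, 8,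
  7, 9, 8, 10]), (21, [5, 2, 1, 5, 4, 5, 3, 9, 6, 9, 9, 8, 10, 10]), (24, [1, 4, 1, 10, 4, 5, 3, 9, 6, 5, 9, 8, 10,
  10]), (26, [7, 0, 1, 4, 10, 4, 3, 5, 9, 6, 10, 7, 9]), (27, [7, 1, 2, 5, 4, 5, 3, 10, 9, 6, 5, 5, 9, 10, 8, 10,
  10]), (28, [5, 1, 0, 7, 10, 4, 3, 10, 5, 5, 10]), (29, [7, 1, 2, 10, 6, 4, 5, 10, 5, 5, 9, 10]), (30, [7, 2, 8, 3,
  8, 5, 5, 5, 9, 7, 9, 10]), (31, [1, 7, 6, 4, 9, 9, 5, 5, 7, 10, 7]), (34, [3, 4, 1, 6, 4, 8, 10, 5, 9, 9, 8, 7,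
  10, 10]), (35, [7, 4, 0, 8, 3, 7, 10, 6, 5, 10, 8]), (37, [4, 0, 9, 8, 4, 5, 9, 5, 5, 9, 7, 10, 10]), (38, [1, 8,
  1, 3, 8, 3, 3, 6, 10, 6, 5, 10, 9, 10, 10]), (40, [1, 7, 1, 9, 4, 3, 5, 10, 5, 5, 9, 7, 9]), (42, [3, 4, 1, 5, 4,
  3, 8, 10, 5, 10, 9, 10]), (43, [1, 0, 3, 10, 5, 6, 5, 9]), (45, [3, 4, 0, 8, 3, 3, 5, 7, 9, 8, 10, 10]), (46, [7,
  5, 1, 0, 8, 5, 5, 9, 7, 10, 10]), (49, [1, 0, 9, 3, 3, 6, 9, 6, 5, 5, 10, 7, 9, 8, 10]), (51, [0, 1, 0, 7, 3, 4,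
  5, 10, 7, 5, 9, 8]), (52, [2, 1, 2, 3, 8, 3, 6, 8, 10, 7, 10]), (53, [1, 2, 6, 4, 6, 5, 5, 5, 7, 9, 10, 10]), (54,
  [4, 2, 1, 9, 3, 4, 5, 9, 8, 10, 10]), (55, [0, 4, 1, 3, 9, 7, 5, 5, 9, 9, 8, 7, 10, 10]), (56, [0, 3, 0, 5, 3, 4,
  10, 7, 5, 9, 9, 7]), (59, [8, 0, 1, 3, 3, 3, 4, 9, 7, 5, 5, 10, 7, 10, 10]), (60, [3, 2, 4, 10, 4, 9, 7, 5, 9, 10,
  8]), (62, [4, 0, 1, 5, 7, 4, 5, 8, 5, 5, 10, 9, 10, 8, 10, 10]), (63, [8, 0, 1, 7, 5, 3, 3, 10, 10, 5, 10, 9,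
  10]), (65, [3, 2, 6, 4, 7, 10, 6, 5, 8, 7, 9, 8]), (67, [0, 2, 8, 5, 3, 3, 9, 9, 5, 5, 9, 10]), (68, [2, 4, 3, 8,
  9, 6, 5, 5, 9, 9, 7, 10]), (70, [7, 1, 7, 4, 3, 5, 9, 7, 9, 10]), (71, [0, 7, 1, 5, 4, 8, 10, 5, 9, 8, 7]), (74,
  [1, 0, 5, 3, 6, 4, 7, 5, 7, 9, 8]), (76, [1, 2, 7, 5, 3, 3, 7, 5, 5, 9, 10, 8, 10]), (77, [10, 3, 1, 4, 3, 3, 5,
  7, 5, 5, 10, 9, 10, 8, 10, 10]), (78, [6, 1, 0, 7, 10, 4, 3, 6, 5, 5, 8, 10, 7, 10]), (79, [6, 1, 0, 4, 5, 3, 3,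
  6, 10, 10, 5, 9, 7, 9, 10, 10]), (80, [2, 3, 1, 0, 7, 3, 3, 6, 5, 5, 7, 10]), (81, [4, 0, 1, 5, 7, 3, 3, 5, 5, 10,
  7, 9]), (84, [2, 4, 1, 7, 4, 3, 3, 10, 6, 5, 10]), (85, [6, 4, 0, 7, 5, 3, 9, 10, 5]), (87, [9, 0, 2, 7, 10, 4, 3,
  10, 6, 9, 7, 9]), (88, [0, 1, 5, 8, 3, 3, 8, 9, 6, 5, 10, 9, 8, 7, 10, 10]), (90, [9, 0, 1, 0, 8, 4, 3, 3, 8, 5,
  5, 7, 9, 8, 10, 10]), (92, [3, 1, 5, 8, 3, 3, 5, 8, 5, 5, 10, 9, 8, 7, 10, 10]), (93, [5, 3, 0, 7, 6, 4, 9, 8, 7,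
  5, 5, 9, 8, 7]), (95, [9, 2, 7, 5, 3, 9, 9, 5, 5, 8, 9, 7, 10, 10]), (96, [6, 0, 1, 7, 3, 8, 3, 5, 10, 6, 7, 10]),
  (99, [1, 1, 0, 9, 5, 3, 3, 6, 9, 6, 5, 5, 10, 9, 10]), (101, [6, 0, 2, 10, 9, 4, 3, 10, 9, 6, 5, 10, 7, 10, 10]),
  (102, [4, 3, 0, 8, 6, 4, 5, 10, 7, 5, 9, 9, 7, 10]), (103, [2, 4, 0, 10, 4, 5, 3, 8, 9, 6, 5, 5, 7, 9, 8, 10]),
  (104, [5, 8, 1, 0, 3, 4, 3, 3, 6, 5, 10, 7, 9, 10, 10]), (105, [7, 1, 1, 4, 9, 7, 5, 9, 9, 7, 10, 10]), (106, [0,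
  3, 0, 6, 10, 4, 8, 5, 5, 10, 7, 9, 10]), (109, [6, 0, 1, 3, 7, 5, 3, 9, 8, 7, 5, 5, 8, 10, 7, 10]), (110, [7, 2,
  5, 3, 6, 4, 5, 6, 5, 10, 7, 9]), (112, [1, 4, 1, 7, 4, 3, 5, 9, 5, 5, 8, 10, 7, 10]), (113, [0, 2, 4, 8, 3, 10, 5,
  6, 5, 7, 10, 7]), (115, [7, 2, 4, 7, 5, 3, 7, 6, 5, 5, 7, 9, 7, 10, 10]), (117, [5, 7, 1, 8, 6, 4, 8, 9, 6, 5, 7,
  9, 10]), (118, [5, 3, 0, 5, 3, 4, 7, 10, 6, 5, 7, 9]), (120, [9, 2, 7, 10, 4, 3, 10, 7, 5, 8, 9, 7]), (121, [5, 1,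
  1, 1, 5, 4, 5, 3, 9, 7, 5, 5, 8, 9, 8]), (124, [10, 1, 0, 3, 7, 4, 8, 7, 5, 5, 7])]

/-- the class `5B` -/
def fB : List (ℕ × List ℕ) := [(7, [2, 1, 10, 6, 4, 9, 6, 5, 5, 10, 7, 10]), (8, [10, 1, 0, 4, 10, 4, 3, 9, 9, 5, 5, 9, 7, 9, 10, 10]), (11, [4,
  3, 0, 3, 3, 4, 5, 10, 6, 5, 10, 9, 8, 7]), (14, [5, 2, 3, 4, 3, 3, 9, 8, 7, 5, 5, 9, 9, 8, 7, 10, 10]), (16, [2,
  1, 4, 4, 8, 6, 5, 5, 9, 9, 8]), (19, [3, 2, 9, 3, 4, 6, 10, 10, 5, 10, 7, 9, 7]), (22, [7, 1, 0, 3, 8, 3, 3, 7, 5,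
  5, 10, 7, 9, 7]), (23, [9, 0, 1, 0, 8, 6, 3, 3, 6, 5, 5, 7, 9, 8, 10, 10]), (32, [8, 0, 2, 7, 10, 4, 3, 10, 7,
  9]), (33, [2, 2, 6, 3, 4, 5, 9, 8]), (36, [5, 6, 1, 0, 9, 3, 3, 9, 9, 5, 5, 9, 8, 7, 10]), (39, [8, 1, 0, 8, 5, 3,
  3, 10, 9, 6, 5, 7, 10, 7, 10, 10]), (41, [6, 1, 3, 7, 4, 10, 7, 5, 5, 8, 7, 9, 8, 10]), (44, [0, 4, 1, 4, 3, 4, 9,
  9, 6, 5, 9, 9, 8, 7, 10, 10]), (47, [1, 1, 3, 6, 4, 7, 10, 6, 5, 10, 7]), (48, [9, 0, 1, 0, 4, 7, 5, 3, 9, 6, 5,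
  8, 9, 7]), (57, [2, 3, 1, 7, 5, 3, 10, 6, 5, 8, 7]), (58, [0, 3, 3, 4, 10, 10]), (61, [3, 1, 0, 6, 10, 5, 10, 7,
  9, 8]), (64, [5, 3, 0, 6, 10, 4, 10, 9, 6, 5, 5, 9, 10, 8]), (66, [3, 4, 0, 3, 8, 3, 9, 6, 8, 7]), (69, [6, 2, 5,
  4, 3, 3, 5, 10, 10, 5, 10, 9, 7, 10]), (72, [3, 2, 1, 9, 4, 3, 8, 5, 5, 5, 9, 9, 7, 10, 10]), (73, [0, 3, 0, 7, 4,
  6, 10, 6, 5, 10, 7]), (82, [6, 1, 10, 6, 4, 6, 5, 5, 9, 9, 7]), (83, [2, 3, 1, 8, 3, 8, 3, 10, 9, 6, 5, 7, 10,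
  7]), (86, [8, 3, 0, 9, 3, 3, 10, 5, 6, 5, 7, 9]), (89, [2, 4, 1, 3, 4, 3, 3, 10, 7, 5, 10, 10]), (91, [2, 3, 1, 0,
  4, 3, 4, 5, 10, 10, 5, 10, 9, 8]), (94, [0, 10, 1, 4, 9, 8, 5, 5, 9]), (97, [1, 5, 1, 3, 8, 3, 8, 9, 6, 5, 10, 7,
  9, 8, 10]), (98, [3, 2, 1, 9, 5, 3, 3, 7, 6, 5, 5, 9, 8]), (107, [7, 4, 0, 5, 8, 3, 3, 5, 7, 5, 5, 10, 9, 8]),
  (108, [3, 4, 1, 10, 4, 3, 5, 10, 6, 8, 9]), (111, [7, 1, 2, 8, 4, 6, 5, 10, 9, 8]), (114, [2, 2, 4, 7, 5, 3, 5, 5,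
  5, 9, 9, 7, 10, 10]), (116, [10, 4, 1, 0, 9, 7, 5, 3, 6, 10, 9, 10]), (119, [6, 1, 0, 4, 8, 3, 8, 9, 6, 5, 5, 10,
  9, 8, 10, 10]), (122, [6, 0, 1, 5, 3, 4, 10, 9, 6, 5, 7, 9, 8, 10]), (123, [4, 2, 3, 4, 3, 6, 10, 6, 5, 10, 7, 9,
  7])]

theorem fA_ok : fA.all (fu N gt e5 (L 2)) = true := by decide +kernel

theorem fC_ok : fC.all (fu N gt e5 (L 0)) = true := by decide +kernel

theorem fB_ok : fB.all (fu N gt e5 (L 3)) = true := by decide +kernel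

theorem cov : ∀ i j k : Fin 5, ((i : ℕ) = 0 ∧ (j : ℕ) = 0 ∧ (k : ℕ) = 0) ∨ ∃ n : ℕ, n % 5 = i ∧ n / 5 % 5 = j ∧ n / 25 = k ∧
    (n ∈ fA.map Prod.fst ∨ n ∈ fC.map Prod.fst ∨ n ∈ fB.map Prod.fst) := fun i j k =>
  ((by decide +kernel : ∀ n < 125, n = 0 ∨ n ∈ fA.map Prod.fst ∨ n ∈ fC.map Prod.fst ∨ n ∈ fB.map Prod.fst)
    (i + 5 * j + 25 * k) (by omega)).imp (fun _ => by omega) fun h => ⟨i + 5 * j + 25 * k, by omega, by omega, by omega, h⟩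

theorem card_out : Nat.card (Out Q) = 2 := nonempty_Q.1.elim fun e => (H55.OutGen.card_out_congr e).trans S2072.result

theorem row5 : haveI : Fact (Nat.Prime 5) := ⟨Nat.prime_five⟩
    Row 5 Q := by
  have : Fact (Nat.Prime 5) := ⟨Nat.prime_five⟩
  obtain ⟨v, h⟩ := ex
  have ha := h 0 (by decide)
  have hb := h 1 (by decide)
  have hz := h 2 (by decide)
  have hc := h 4 (by decide)
  have hd := h 5 (by decide)
  have H : Heis.Rel 5 (v 0) (v 1) (v 2) := ⟨N.eq_of (Mdl.R_pw ha 5) N.R_one (by decide +kernel),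
    N.eq_of (Mdl.R_pw hb 5) N.R_one (by decide +kernel), N.eq_of (Mdl.R_pw hz 5) N.R_one (by decide +kernel),
    N.eq_of (N.R_mul ha hz) (N.R_mul hz ha) (by decide +kernel),
    N.eq_of (N.R_mul hb hz) (N.R_mul hz hb) (by decide +kernel),
    N.eq_of (N.R_mul hb ha) (N.R_mul (N.R_mul ha hb) hz) (by decide +kernel), N.ne_of hz N.R_one (by decide +kernel)⟩
  have h3 : ∀ x : Q, x ≠ 1 → x ^ 3 = 1 → Li 5 x 6 := li_rank_two_all (zc 5) Nat.prime_three (by decide) (by decide)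
    (N.eq_of (N.R_mul hd hc) (N.R_mul hc hd) (by decide +kernel)) (N.eq_of (Mdl.R_pw hc 3) N.R_one (by decide +kernel))
    (N.eq_of (Mdl.R_pw hd 3) N.R_one (by decide +kernel)) (N.ne_of hc N.R_one (by decide +kernel))
    (fun i hi => N.ne_of (Mdl.R_pw hc i) hd
      (allB_spec (by decide +kernel : allB 3 (fun i => N.neq (N.pw (L 4) i) (L 5)) = true) hi))
    (by rw [card_Q]; decide) [(0, 2, 1, 0), (1, 1, 1, 2)] (by
      simp only [List.forall_mem_cons]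
      have h6 := h 6 (by decide)
      have h7 := h 7 (by decide)
      exact ⟨⟨_, N.eq_of (N.R_mul hc h6) (N.R_mul h6 (N.R_mul (Mdl.R_pw hc 0) (Mdl.R_pw hd 2))) (by decide +kernel),
        N.eq_of (N.R_mul hd h6) (N.R_mul h6 (N.R_mul (Mdl.R_pw hc 1) (Mdl.R_pw hd 0))) (by decide +kernel)⟩,
        ⟨_, N.eq_of (N.R_mul hc h7) (N.R_mul h7 (N.R_mul (Mdl.R_pw hc 1) (Mdl.R_pw hd 1))) (by decide +kernel),
        N.eq_of (N.R_mul hd h7) (N.R_mul h7 (N.R_mul (Mdl.R_pw hc 1) (Mdl.R_pw hd 2))) (by decide +kernel)⟩,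
        fun _ h => (nomatch h)⟩) (N := 3) (by decide +kernel)
  have lA : Li 5 (v 2) 4 := four (h 2 (by decide)) (h 8 (by decide)) (h 9 (by decide)) (h 10 (by decide)) h3
      [1, 1, 0, 0] 5 [1, 0, 0, 0, 1, 1, 1, 0, 1, 0, 0, 0] (by decide +kernel)
  have lC : Li 5 (v 0) 4 := four (h 0 (by decide)) (h 11 (by decide)) (h 12 (by decide)) (h 13 (by decide)) h3
      [1, 1, 0] 4 [0, 0, 0, 1, 0, 0, 1, 1, 0, 0, 0] (by decide +kernel)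
  have lB : Li 5 (v 3) 4 := four (h 3 (by decide)) (h 14 (by decide)) (h 15 (by decide)) (h 16 (by decide)) h3
      [1, 0, 1, 1, 0, 0] 5 [1, 0, 0, 1, 0, 0, 1, 0, 1, 1, 1] (by decide +kernel)
  have hv : ∀ n, N.R (e5 n) (v 0 ^ (n % 5) * v 1 ^ (n / 5 % 5) * v 2 ^ (n / 25)) := fun n =>
    N.R_mul (N.R_mul (Mdl.R_pw ha _) (Mdl.R_pw hb _)) (Mdl.R_pw hz _)
  refine row_rank_two (by rw [card_out]; decide)
    (fun E hE j h4 hj => (SpD.heis_mem H (by rw [card_Q]; decide) hE h4 hj).1) fun t h1 h2 =>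
    li_of_sylow (Heis.isPGroup H) (fun ⟨c, hc⟩ => ?_) (fun y hy h4 _ => ?_) h1 h2
  · have h4 := (Heis.gp H).card_mul_index
    rw [Heis.card H, hc, card_Q] at h4
    omega
  obtain ⟨⟨i, j, k⟩, h5⟩ := Heis.par_surjective H ⟨y, hy⟩
  obtain rfl : v 0 ^ (i : ℕ) * v 1 ^ (j : ℕ) * v 2 ^ (k : ℕ) = y := congrArg Subtype.val h5
  rcases cov i j k with ⟨e1, e2, e3⟩ | ⟨n, e1, e2, e3, e⟩
  · exact absurd (by rw [e1, e2, e3]; simp) h4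
  rw [← e1, ← e2, ← e3]
  rcases e with e | e | e
  · obtain ⟨g, -, e⟩ := fu_spec hg' hv hz fA_ok n e
    exact lA.of_isConj (isConj_iff.2 ⟨g, e⟩).symm
  · obtain ⟨g, -, e⟩ := fu_spec hg' hv ha fC_ok n e
    exact lC.of_isConj (isConj_iff.2 ⟨g, e⟩).symm
  · obtain ⟨g, -, e⟩ := fu_spec hg' hv (h 3 (by decide)) fB_ok n e
    exact lB.of_isConj (isConj_iff.2 ⟨g, e⟩).symm

end HS

/-- **the row of `HS`** -/
theorem row_hs (p : ℕ) [hp : Fact p.Prime] : Row p Spor.HS := by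
  obtain ⟨e⟩ := nonempty_Q.1
  refine Row.of_equiv ?_ e.symm
  by_cases h2 : p = 2
  · subst h2
    exact HS.row2
  have ho : ¬ p ∣ Nat.card (Out Q) := fun h =>
    h2 ((Nat.prime_dvd_prime_iff_eq hp.out Nat.prime_two).1 (HS.card_out ▸ h))
  by_cases h3 : p = 3
  · subst h3
    exact row_of_not_dvd ho (by rw [card_Q, small_three]; decide)
  by_cases h5 : p = 5
  · subst h5
    exact HS.row5
  have h4 : ∀ {q : ℕ}, q.Prime → p ≠ q → ∀ n, p.Coprime (q ^ n) := fun hq h n =>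
    ((Nat.coprime_primes hp.out hq).2 h).pow_right n
  refine row_of_not_sq ho ?_
  rw [card_Q, show 44352000 = 2 ^ 9 * 3 ^ 2 * 5 ^ 3 * 77 by norm_num]
  exact not_sq_dvd hp.out (((h4 Nat.prime_two h2 9).mul_right (h4 Nat.prime_three h3 2)).mul_right
    (h4 Nat.prime_five h5 3)) (by decide +kernel)

end Cfsg.Agent.TwoF.SpC
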