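import Cfsg.Agent.TwoF.SpC.HSDat
import Cfsg.Agent.TwoF.SpC.Chk2
import Cfsg.Agent.S2046

/-!
# TwoF SP-C : the row of the Higman-Sims group in characteristic two (helper83)
-/

set_option autoImplicit false
set_option maxRecDepth 100000
set_option maxHeartbeats 400000

namespace Cfsg.Agent.TwoF.SpC.HS

open Cfsg Subgroup Cfsg.Agent.TwoF.Gen Cfsg.Agent.FS.Real
open Cfsg.Agent.HN.HS100 Cfsg.Agent.HN.AutBound Cfsg.Agent.HN.AutHS
open Cfsg.Agent.SporadicA.PermTab (autG)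

theorem hN : ∀ g ∈ autG 100 adjA, ∀ x ∈ Q, g⁻¹ * x * g ∈ Q := fun g hg x hx =>
  mem_Q_iff.2 ⟨mul_mem (mul_mem (inv_mem hg) (Q_le hx)) hg, by
    rw [map_mul, map_mul, sign_Q hx, mul_one, ← map_mul, inv_mul_cancel, map_one]⟩

theorem zc (p : ℕ) : XE.Zc p Q 2 := nonempty_Q.1.elim fun e => (XE.zc_of_cyclic S2046.result).of_equiv e

theorem relIndex_eq {A : Subgroup (Equiv.Perm (Fin 100))} (h : A ≤ autG 100 adjA) :
    Nat.card A * A.relIndex (autG 100 adjA) = 88704000 := by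
  rw [← card_autG, ← (A.subgroupOf (autG 100 adjA)).card_mul_index, Nat.card_congr (subgroupOfEquivOfLe h).toEquiv]
  rfl

variable {x : ℕ → Equiv.Perm (Fin 100)} {S : Subgroup (Equiv.Perm (Fin 100))}

theorem lz (hv : ∀ a, MM.R (MM.elc X 10 a) (el x 10 a)) : LE Q (el x 10 512) 8 :=
  cts_le hg hv hK cz_ok 512 (by decide)

variable (J : Gen D S x) (hS : S ≤ autG 100 adjA) (hv : ∀ a, MM.R (MM.elc X 10 a) (el x 10 a))
include J

theorem hz : ∀ s ∈ S, s * el x 10 512 = el x 10 512 * s := central_of J (z := 512) (by decide) (by decide +kernel)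

theorem rk {E : Subgroup (Equiv.Perm (Fin 100))} (hE : E ≤ S) (hA : IsElementaryAbelian 2 E) {r : ℕ}
    (hc : Nat.card E = 2 ^ r) : r ≤ 5 :=
  le_of_pow_le hc (nb_card J T_ok hE hA (f := fun _ _ => true) (fun _ _ _ _ => rfl) n63) (by decide)

include hS hv

theorem la {a : ℕ} (h : tb Ma a = true) : ∃ y ∈ autG 100 adjA, y * el x 10 a * y⁻¹ = el x 10 512 :=
  cls_seed J (Pr := fun t => ∃ y ∈ autG 100 adjA, y * t * y⁻¹ = el x 10 512)
    (fun s hs t ⟨y, e1, e2⟩ => ⟨y * s⁻¹, mul_mem e1 (inv_mem (hS hs)), by rw [← e2]; group⟩)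
    (fun a ha => (fu_spec hg hv (hv 512) fa_ok a ha).imp fun _ e => ⟨Q_le e.1, e.2⟩) Ma_ok h

theorem lb {a : ℕ} (h : tb Mb a = true) : LE Q (el x 10 a) 10 :=
  cls_seed J (Pr := fun t => LE Q t 10) (fun _ hs _ h => h.cj hN (hS hs)) (cts_le hg hv hK cb_ok) Mb_ok h

theorem lo {a : ℕ} (h : tb Mo a = true) : LE Q (el x 10 a) 3 ∧ Gd Q S (el x 10 512) (el x 10 a) 4 9 :=
  cls_seed J (Pr := fun t => LE Q t 3 ∧ Gd Q S (el x 10 512) t 4 9)
    (fun s hs _ h => ⟨h.1.cj hN (hS hs), h.2.cj hN hS hs (hz J s hs)⟩) (fun a ha => ⟨cts_le hg hv hK co_ok a ha,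
      fun _ _ _ e1 e2 _ => cts_spec hg hv hK (hv 512) (lz hv) c4_ok
        ((by decide : co.map Ct.b = c4.map Ct.b) ▸ ha) e1 e2⟩) Mo_ok h

theorem l5 {a : ℕ} (h : tb M5 a = true) : Gd Q S (el x 10 512) (el x 10 a) 5 11 :=
  cls_seed J (Pr := fun t => Gd Q S (el x 10 512) t 5 11) (fun s hs _ h => h.cj hN hS hs (hz J s hs))
    (fun _ ha _ _ _ e1 e2 _ => cts_spec hg hv hK (hv 512) (lz hv) c5_ok ha e1 e2) M5_ok h

omit J hS hv in
theorem hQ : Q.relIndex (autG 100 adjA) = 2 := by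
  have h3 := relIndex_eq Q_le
  rw [card_Q] at h3
  omega

theorem inn (h2 : ∀ i, 0 < i → i < 10 → x i ∈ Q) (h0 : x 0 ∉ Q) {E : Subgroup (Equiv.Perm (Fin 100))} (hE : E ≤ S)
    (hA : IsElementaryAbelian 2 E) {r : ℕ} (hr : 1 < r) (hc : Nat.card E = 2 ^ r) :
    ∃ t ∈ E, (∃ y ∈ autG 100 adjA, y * t * y⁻¹ = el x 10 512) ∨ LE Q t 10 := by
  have h3 := card_le_two_mul hQ (hE.trans hS)
  have h4 : 2 ^ 2 ≤ 2 ^ r := Nat.pow_le_pow_right (by decide) hr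
  obtain ⟨⟨t, h5, h6⟩, h7⟩ := ne_bot_iff_exists_ne_one.1 ((one_lt_card_iff_ne_bot (E ⊓ Q)).1 (by omega))
  obtain ⟨a, ha, rfl⟩ := (J.mem t).1 (hE h5)
  obtain ⟨m, hm⟩ := tab_mem J T_ok hA ha (fun e => h7 (Subtype.ext (by subst e; exact el_nil x D.n))) h5
  have h8 : (!Nat.beq (a % 2) 0 || tb Ma a || tb Mb a) = true := allP_spec ev _ hm
  rw [Bool.or_eq_true, Bool.or_eq_true] at h8
  exact ⟨_, h5, h8.imp (fun e => la J hS hv (e.resolve_left fun e' =>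
    nbeq_ne e' (even_of_mem (n := 10) (by decide) h2 h0 h6))) (lb J hS hv)⟩

omit J hS hv in
theorem row2 : Row 2 Q := by
  obtain ⟨x, hx, h1, h2, h0⟩ := exists_gen hg hZ X_ok Q_le Z_mem Z_not
  obtain ⟨S, J⟩ := Mdl.RX.gen (D := D) hx D_ok X_rel
  have hS : S ≤ autG 100 adjA := J.le_of h1
  have hv : ∀ a, MM.R (MM.elc X 10 a) (el x 10 a) := Mdl.RX.el (D := D) hx
  have hi : ¬ 2 ∣ S.relIndex (autG 100 adjA) := fun ⟨c, hc⟩ => by
    have h3 := relIndex_eq hS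
    rw [J.card, hc, show 2 ^ D.n = 1024 from rfl] at h3
    omega
  have i8 : ∀ E ≤ S, IsElementaryAbelian 2 E → ∀ r, 1 < r → Nat.card E = 2 ^ r → ∃ t ∈ E, LE Q t 8 :=
    fun E hE hA r hr hc => (inn J hS hv h2 h0 hE hA hr hc).imp fun t h => ⟨h.1, h.2.elim
      (fun ⟨y, e1, e2⟩ => LE.of_conj (hN y e1) (by rw [e2]; exact lz hv)) fun e => e.le (by decide)⟩
  refine row_two (fun _ h => eq_one_of_comm fun q hq => (h q hq).symm) exists_perm hN
    (nonempty_Q.1.elim fun e => (SpE.zc_of_mul (m := 1) Nat.prime_two S2046.result).of_equiv e) J.isPGroup hS hi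
    (fun E hE hA r hr hc => ?_) fun E hE hA e0 r hr hc => ?_
  · obtain ⟨t, h3, h4⟩ := i8 E hE hA r (by omega) hc
    exact ⟨t, h3, h4.le (by have := rk J hE hA hc; omega)⟩
  by_cases r1 : r ≤ 1
  · obtain ⟨a, h3, h4⟩ := exists_odd J T_ok hE hA h2 e0 od
    exact ((lo J hS hv h3).1.lh h4).le (by omega)
  by_cases r3 : r ≤ 3
  · obtain ⟨t, h3, h4⟩ := i8 E hE hA r (by omega) hc
    exact (h4.lh h3).le (by omega)
  obtain rfl | rfl : r = 4 ∨ r = 5 := by have := rk J hE hA hc; omega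
  · obtain ⟨t, h3, ⟨y, h4, h5⟩ | h4⟩ := inn J hS hv h2 h0 hE hA (by decide) hc
    · refine wlog_z hN J.isPGroup hS hi (hz J) (hE.trans hS) hA e0 h3 h4 h5 fun E' f1 f2 f3 f4 f5 => ?_
      obtain ⟨a, h6, h7⟩ := exists_odd J T_ok f1 f2 h2 f3 od
      exact (lo J hS hv h6).2 E' f1 f2 f4 h7 (f5.trans hc)
    · exact (h4.lh h3).le (by decide)
  · have h3 := card_le_two_mul hQ (hE.trans hS)
    obtain ⟨a, h4, h5⟩ := nb_exists J T_ok (inf_le_left.trans hE) (elemAb_of_le hA (inf_le_left : E ⊓ Q ≤ E))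
      (f := fun a _ => Nat.beq (a % 2) 0)
      (fun a _ _ e => by rw [even_of_mem (n := 10) (by decide) h2 h0 e.2]; rfl) n15 (by omega)
    obtain ⟨y, h6, h7⟩ := la J hS hv h4
    refine wlog_z hN J.isPGroup hS hi (hz J) (hE.trans hS) hA e0 h5.1 h6 h7 fun E' f1 f2 _ f4 f5 => ?_
    obtain ⟨b, h8, h9⟩ := nb_exists2 J T_ok f1 f2 n31 (by decide) (by rw [f5, hc]; decide)
    exact l5 J hS hv h8 E' f1 f2 f4 h9 (f5.trans hc)

end Cfsg.Agent.TwoF.SpC.HS
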