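import Cfsg.Agent.TwoF.XE.Lo
import Cfsg.Agent.TwoF.SpA.Gen
import Cfsg.Agent.H348.Inv.J1
import Cfsg.Agent.S2065

/-!
# TwoF SP-C : the row of the first Janko group (helper83)
-/

set_option autoImplicit false

namespace Cfsg.Agent.TwoF.SpC

open Cfsg Subgroup Cfsg.Agent.TwoF.Gen

/-- a prime that is not in the list `L` does not divide the product of powers of the members of `L` -/
theorem not_sq_dvd {p a b : ℕ} (hp : p.Prime) (ha : p.Coprime a) (hb : Squarefree b) : ¬ p ^ 2 ∣ a * b := fun h =>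
  hp.one_lt.ne' (Nat.isUnit_iff.1 (hb p (by rw [← pow_two]; exact (ha.pow_left 2).dvd_of_dvd_mul_left h)))

/-- small Sylow subgroups -/
theorem row_of_not_dvd {p : ℕ} [Fact p.Prime] {S : Type} [Group S] [Finite S] (ho : ¬ p ∣ Nat.card (Out S))
    (h : ¬ p ^ (small p + 1) ∣ Nat.card S) : Row p S := SpA.row_of_card ho (XE.card_le_of_not_dvd h)

theorem row_of_not_sq {p : ℕ} [Fact p.Prime] {S : Type} [Group S] [Finite S] (ho : ¬ p ∣ Nat.card (Out S))
    (h : ¬ p ^ 2 ∣ Nat.card S) : Row p S :=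
  row_of_not_dvd ho fun e => h ((pow_dvd_pow p (by unfold small; split_ifs <;> omega)).trans e)

/-- **the row of `J1`** -/
theorem row_j1 (p : ℕ) [hp : Fact p.Prime] : Row p Spor.J1 := by
  have hc := H348.Inv.J1.card_J1
  have : Finite Spor.J1 := Nat.finite_of_card_ne_zero (by rw [hc]; norm_num)
  have ho : ¬ p ∣ Nat.card (Out Spor.J1) := by
    rw [S2065.result, Nat.dvd_one]
    exact hp.out.one_lt.ne'
  by_cases h2 : p = 2
  · subst h2
    exact row_of_not_dvd ho (by rw [hc, small_two]; norm_num)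
  refine row_of_not_sq ho ?_
  rw [hc, show 175560 = 2 ^ 3 * 21945 by norm_num]
  exact not_sq_dvd hp.out (((Nat.coprime_primes hp.out Nat.prime_two).2 h2).pow_right 3) (by decide +kernel)

end Cfsg.Agent.TwoF.SpC
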