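import Cfsg.Agent.TwoF.SpC.Chk
import Cfsg.Agent.TwoF.SpC.J1
import Cfsg.Agent.TwoF.XS.Sq
import Cfsg.Agent.TwoF.SpD.Tool

/-!
# TwoF SP-C : tools for odd characteristic (helper83)
-/

set_option autoImplicit false

namespace Cfsg.Agent.TwoF.SpC

open Cfsg Subgroup Cfsg.Agent.TwoF.Gen Cfsg.Agent.TwoF.XE Cfsg.Agent.FS.Real Cfsg.Agent.H859

/-- the model of a subgroup -/
noncomputable def subM {Γ : Type} [Group Γ] (M : Mdl Γ) (G : Subgroup Γ) : Mdl G where
  R c g := M.R c g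
  mul := M.mul
  one := M.one
  eqv := M.eqv
  neq := M.neq
  ok _ _ := false
  R_one := M.R_one
  R_mul := M.R_mul
  eq_of := fun h1 h2 h => Subtype.ext (M.eq_of h1 h2 h)
  ne_of := fun h1 h2 h e => M.ne_of h1 h2 h (congrArg Subtype.val e)
  ex_of := fun h => nomatch h

theorem sub_gen {Γ : Type} [Group Γ] {M : Mdl Γ} {G : Subgroup Γ} {g : ℕ → ℕ} (hg : ∀ i, ∃ y ∈ G, M.R (g i) y)
    {W : List (List ℕ)} {X : ℕ → ℕ} {n : ℕ} (h : allB n (fun i => Nat.beq (X i) (wc M g (W.getD i []))) = true) :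
    ∃ x : ℕ → G, ∀ i, i < n → (subM M G).R (X i) (x i) := by
  choose y h3 h4 using fun i => in_wc hg (W.getD i [])
  exact ⟨fun i => ⟨y i, h3 i⟩, fun i hi => beq_eq (allB_spec h hi) ▸ h4 i⟩

variable {p : ℕ} [hp : Fact p.Prime] {S : Type} [Group S] [Finite S]

theorem exists_pow_lt {e a : S} (he : e ^ p = 1) (h : a ∈ zpowers e) : ∃ k < p, a = e ^ k := by
  obtain ⟨k, rfl⟩ := (isOfFinOrder_of_finite e).mem_powers_iff_mem_zpowers.2 h
  exact ⟨k % p, Nat.mod_lt _ hp.out.pos, pow_eq_pow_mod k he⟩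

/-- an element that normalises a Sylow subgroup of order `p ^ 2` and none of its subgroups of order `p` -/
theorem row88_of_elt (h3 : ¬ p ^ 3 ∣ Nat.card (MulAut S)) (h3' : ¬ p ^ 3 ∣ Nat.card S) {f g y : S} (hc : f * g = g * f)
    (hf : f ^ p = 1) (hg : g ^ p = 1) {a b c d : ℕ} (h1 : y * f = f ^ a * g ^ b * y) (h2 : y * g = f ^ c * g ^ d * y)
    (h : ∀ i < p, ∀ j < p, ∀ k < p, y * (f ^ i * g ^ j) = (f ^ i * g ^ j) ^ k * y → i = 0 ∧ j = 0) : Row88 p S := by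
  have hR := elemAb_two hc hf hg
  have key : ∀ e ∈ zpowers f ⊔ zpowers g, y * e * y⁻¹ ∈ zpowers e → e = 1 := fun e he h4 => by
    obtain ⟨k, hk, h5⟩ := exists_pow_lt (hR.2 e he) h4
    obtain ⟨i, hi, j, hj, rfl⟩ := exists_pow_of_mem_sup hp.out.pos hc.symm hf hg he
    obtain ⟨rfl, rfl⟩ := h i hi j hj k hk (by rw [← h5, inv_mul_cancel_right])
    simp
  have cz : ∀ e ∈ zpowers f ⊔ zpowers g, e ≠ 1 → Nat.card (zpowers e) = p := fun e he h4 => by
    rw [Nat.card_zpowers, orderOf_eq_prime (hR.2 e he) h4]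
  have hN : zpowers y ≤ normalizer ((zpowers f ⊔ zpowers g : Subgroup S) : Set S) := by
    have h4 : ∀ i j, f ^ i * g ^ j ∈ zpowers f ⊔ zpowers g := fun i j =>
      mul_mem (mem_sup_left (pow_mem (mem_zpowers f) i)) (mem_sup_right (pow_mem (mem_zpowers g) j))
    rw [sup_eq] at h4 ⊢
    refine zpowers_le.2 (SpA.mem_normalizer_closure ?_)
    rintro x (rfl | rfl)
    · rw [h1, mul_inv_cancel_right]
      exact h4 a b
    · rw [h2, mul_inv_cancel_right]
      exact h4 c d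
  have f0 : f ∈ zpowers f ⊔ zpowers g := mem_sup_left (mem_zpowers f)
  have f1 : f ≠ 1 := fun e => one_ne_zero (h 1 hp.out.one_lt 0 hp.out.pos 0 hp.out.pos (by simp [e])).1
  have hP : Nat.card (zpowers f ⊔ zpowers g : Subgroup S) = p ^ 2 := by
    obtain ⟨r, hr⟩ := (elemAb_isPGroup hR).exists_card_eq
    have h4 := SpD.le_of_card hr h3'
    have h5 : ¬ r ≤ 1 := fun e => f1 (key f f0 (by
      rw [eq_of_le_of_card_ge (le_sup_left : zpowers f ≤ zpowers f ⊔ zpowers g) (by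
        rw [cz f f0 f1, hr]
        exact (Nat.pow_le_pow_right hp.out.pos e).trans (pow_one p).le)]
      exact (mem_normalizer_iff.1 (hN (mem_zpowers y)) f).1 f0))
    rw [hr, show r = 2 by omega]
  refine XS.row88_of_sq h3 hP hN fun E hE hn => by_contra fun h4 => ?_
  rw [not_or] at h4
  obtain ⟨⟨e, he⟩, h5⟩ := ne_bot_iff_exists_ne_one.1 h4.1
  have h6 : e ≠ 1 := fun e' => h5 (Subtype.ext e')
  refine h6 (key e (hE he) ?_)
  rw [eq_of_le_of_card_ge (zpowers_le.2 he) (by rw [cz e (hE he) h6, XS.card_eq_of_sq hP hE h4.1 h4.2])]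
  exact hn y (mem_zpowers y) e he

/-- Sylow subgroups `3 ^ (1 + 2)` -/
theorem row_of_heis {a b s : S} (h : Heis.Rel 3 a b s) (ho : ¬ 3 ∣ Nat.card (Out S)) (he : ¬ 3 ^ 4 ∣ Nat.card S) :
    haveI : Fact (Nat.Prime 3) := ⟨Nat.prime_three⟩
    Row 3 S := by
  have : Fact (Nat.Prime 3) := ⟨Nat.prime_three⟩
  refine SpA.row_of_card ho fun E hE => ?_
  obtain ⟨j, hj⟩ := (elemAb_isPGroup hE).exists_card_eq
  rw [hj, small_three]
  exact Nat.pow_le_pow_right (by decide) (not_lt.1 fun e => e.ne' (SpD.heis_mem h he hE e.le hj).1)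

end Cfsg.Agent.TwoF.SpC
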