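import Cfsg.Agent.TwoF.SpC.J2Two
import Cfsg.Agent.TwoF.SpC.Odd
import Cfsg.Agent.H55.OutGen

/-!
# TwoF SP-C : the row of `J2` (helper83)
-/

set_option autoImplicit false
set_option maxRecDepth 100000

namespace Cfsg.Agent.TwoF.SpC

open Cfsg Subgroup Cfsg.Agent.TwoF.Gen Cfsg.Agent.FS.Real Cfsg.Agent.H859
open Cfsg.Agent.SporadicA.J2Hundred

namespace J2

/-- the indices of `f, g, y, z, q` -/
def K' (i : ℕ) : ℕ := K ([1, 2, 3, 5, 6].getD i 0)

theorem ex : ∃ v : ℕ → G, ∀ i, i < 5 → (subM MM G).R (K' i) (v i) :=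
  sub_gen hg (W := [[3, 4, 0, 5, 8, 5, 8, 8, 9, 9, 9], [2, 9, 8, 7], [9, 4, 5, 8, 5, 9, 8, 9, 9, 9], [5, 5, 4, 6, 9, 5, 8, 7, 8, 9], [8, 4, 2, 5, 9, 5, 9, 7]]) (by decide +kernel)

theorem iso : Nonempty (Spor.J2 ≃* G) := J2.HundredGens.J2_iso S1619.result.2.2.2

theorem card_out : Nat.card (Out G) = 2 := iso.elim fun e => (H55.OutGen.card_out_congr e).symm.trans S2066.result

theorem center_eq : center G = ⊥ := (eq_bot_iff_forall _).2 fun _ hc => Subtype.ext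
  (H269.CubeJ2.cent_triv fun g hg => congrArg Subtype.val (mem_center_iff.1 hc ⟨g, hg⟩))

theorem row3 : haveI : Fact (Nat.Prime 3) := ⟨Nat.prime_three⟩
    Row 3 G := by
  obtain ⟨v, h⟩ := ex
  have hy := h 2 (by decide)
  have hz := h 3 (by decide)
  have hq := h 4 (by decide)
  let N := subM MM G
  exact row_of_heis ⟨N.eq_of (Mdl.R_pw hy 3) N.R_one (by decide +kernel),
    N.eq_of (Mdl.R_pw hq 3) N.R_one (by decide +kernel), N.eq_of (Mdl.R_pw hz 3) N.R_one (by decide +kernel),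
    N.eq_of (N.R_mul hy hz) (N.R_mul hz hy) (by decide +kernel),
    N.eq_of (N.R_mul hq hz) (N.R_mul hz hq) (by decide +kernel),
    N.eq_of (N.R_mul hq hy) (N.R_mul (N.R_mul hy hq) hz) (by decide +kernel),
    N.ne_of hz N.R_one (by decide +kernel)⟩ (by rw [card_out]; decide) (by rw [card_G]; decide)

theorem chk5 : (allB 5 fun i => allB 5 fun j => (Nat.beq i 0 && Nat.beq j 0) ||
    force (MM.mul (MM.pw (K' 0) i) (MM.pw (K' 1) j)) fun e => allB 5 fun k =>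
      MM.neq (MM.mul (K' 2) e) (MM.mul (MM.pw e k) (K' 2))) = true := by decide +kernel

theorem row5 : haveI : Fact (Nat.Prime 5) := ⟨Nat.prime_five⟩
    Row 5 G := by
  have : Fact (Nat.Prime 5) := ⟨Nat.prime_five⟩
  obtain ⟨v, h⟩ := ex
  have hf := h 0 (by decide)
  have hg := h 1 (by decide)
  have hy := h 2 (by decide)
  let N := subM MM G
  refine ⟨row88_of_elt (by rw [XE.card_aut center_eq, card_G, card_out]; decide) (by rw [card_G]; decide)
    (N.eq_of (N.R_mul hf hg) (N.R_mul hg hf) (by decide +kernel))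
    (N.eq_of (Mdl.R_pw hf 5) N.R_one (by decide +kernel)) (N.eq_of (Mdl.R_pw hg 5) N.R_one (by decide +kernel))
    (N.eq_of (N.R_mul hy hf) (N.R_mul (N.R_mul (Mdl.R_pw hf 0) (Mdl.R_pw hg 1)) hy) (by decide +kernel))
    (N.eq_of (N.R_mul hy hg) (N.R_mul (N.R_mul (Mdl.R_pw hf 4) (Mdl.R_pw hg 4)) hy) (by decide +kernel))
    fun i hi j hj k hk e => ?_, row89_of_not_dvd (by rw [card_out]; decide)⟩
  have h1 := allB_spec (allB_spec chk5 hi) hj
  rw [Bool.or_eq_true, Bool.and_eq_true, force_eq] at h1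
  have h2 := N.R_mul (Mdl.R_pw hf i) (Mdl.R_pw hg j)
  exact (h1.resolve_right fun h3 => N.ne_of (N.R_mul hy h2) (N.R_mul (Mdl.R_pw h2 k) hy) (allB_spec h3 hk) e).imp
    beq_eq beq_eq

end J2

/-- **the row of `J2`** -/
theorem row_j2 (p : ℕ) [hp : Fact p.Prime] : Row p Spor.J2 := by
  obtain ⟨e⟩ := J2.iso
  refine Row.of_equiv ?_ e
  by_cases h2 : p = 2
  · subst h2
    exact J2.row
  by_cases h3 : p = 3
  · subst h3
    exact J2.row3
  by_cases h5 : p = 5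
  · subst h5
    exact J2.row5
  have h4 : ∀ {q : ℕ}, q.Prime → p ≠ q → ∀ n, p.Coprime (q ^ n) := fun hq h n =>
    ((Nat.coprime_primes hp.out hq).2 h).pow_right n
  refine row_of_not_sq (fun h => h2 ((Nat.prime_dvd_prime_iff_eq hp.out Nat.prime_two).1 (J2.card_out ▸ h))) ?_
  rw [card_G, show 604800 = 2 ^ 7 * 3 ^ 3 * 5 ^ 2 * 7 by norm_num]
  exact not_sq_dvd hp.out (((h4 Nat.prime_two h2 7).mul_right (h4 Nat.prime_three h3 3)).mul_right
    (h4 Nat.prime_five h5 2)) (by decide +kernel)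

end Cfsg.Agent.TwoF.SpC
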